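import Cfsg.Agent.Lib.HeType.Cert.Fast
import Cfsg.Agent.Lib.HeType.Side.Data

/-!
Kernel checks for the automorphisms of the common centraliser.
-/

set_option autoImplicit false
set_option maxRecDepth 100000
set_option Elab.async false

namespace CfsgLib.HeType.Side

open CfsgLib.HeType.Cert

/-- The image of a letter. -/
def letter (x y : ℕ) : ℕ → ℕ
  | 0 => gen0
  | 1 => fMul gen0 gen0
  | 2 => x
  | _ => y

/-- The value of a word. -/
def evW (x y : ℕ) (w : List ℕ) : ℕ := w.foldl (fun p i => fMul p (letter x y i)) 0

/-- The codes commuting with the conjugate in a range. -/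
def dPart (s : ℕ) : List ℕ := (List.range' s 5376).filter fun c => Nat.beq (fMul c 1) (fMul 1 c)

theorem d_check : (dPart 0 ++ dPart 5376 ++ dPart 10752 ++ dPart 16128 == dList) = true := by decide +kernel

theorem gens_check : ([gen0, fMul gen0 gen0, gen2, gen3].all dList.contains &&
    Nat.beq (evW gen2 gen3 wordT) 64 && Nat.beq (evW gen2 gen3 wordA) 1 && Nat.beq (evW gen2 gen3 wordR) 0 &&
    Nat.beq (fMul gen0 (fMul gen0 gen0)) 0 && Nat.beq (fMul gen2 gen2) 0 && Nat.beq (fMul gen3 gen3) 0 &&
    candX.all dList.contains && candY.all dList.contains && centH.all dList.contains &&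
    Nat.beq (fMul 8 8) 0 && centH.all fun k => Nat.beq (fMul k gen0) (fMul gen0 k)) = true := by decide +kernel

theorem ord3_check : dList.all (fun c => !(Nat.beq (fMul c (fMul c c)) 0) || Nat.beq c 0 ||
    ord3Conj.any fun p => Nat.beq p.1 c && dList.contains p.2 &&
      Nat.beq (fMul p.2 c) (fMul gen0 p.2)) = true := by decide +kernel

/-- The condition on an image of the second generator. -/
def xOk (c : ℕ) : Bool := !(Nat.beq (fMul c c) 0) || Nat.beq c 0 ||
  centH.any fun k => centH.any fun k' => Nat.beq (fMul k k') 0 && candX.contains (fMul (fMul k c) k')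

theorem x_check : dList.all xOk = true := by decide +kernel

theorem y_check : dList.all (fun c => !(Nat.beq (fMul c c) 0) || Nat.beq c 0 || !(Nat.beq (evW 0 c wordR) 0) ||
    candY.contains c) = true := by decide +kernel

theorem pair_check : candX.all (fun x => candY.all fun y => !(Nat.beq (evW x y wordA) 65) ||
    !(Nat.beq (evW x y wordT) 1) || autPairs.contains (x, y)) = true := by decide +kernel

theorem split_check : autPairs.all (fun p => (noFlip.map fun e => (e.1, e.2.1)).contains p ||
    [heTab, heTwin, normTab, normTwin].contains p) = true := by decide +kernel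

/-- An image pair has no transposition. -/
def flipOk : ℕ × ℕ × List (List ℕ) → Bool
  | (x, y, [w0, w2, w3]) =>
    Nat.beq (fMul 8 (evW gen2 gen3 w0)) (fMul gen0 8) && Nat.beq (fMul 8 (evW gen2 gen3 w2)) (fMul x 8) &&
      Nat.beq (fMul 8 (evW gen2 gen3 w3)) (fMul y 8) &&
      dList.all fun d => !(Nat.beq (fMul d gen0) (fMul (fMul (fMul 8 (evW x y w0)) 8) d)) ||
        !(Nat.beq (fMul d gen2) (fMul (fMul (fMul 8 (evW x y w2)) 8) d)) ||
        !(Nat.beq (fMul d gen3) (fMul (fMul (fMul 8 (evW x y w3)) 8) d))
  | _ => false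

theorem flip_check : noFlip.all flipOk = true := by decide +kernel

/-- A link is right. -/
def linkOk : ℕ × ℕ × ℕ × List ℕ × ℕ → Bool
  | (x, y, u, w, v) => Nat.beq (evW gen2 gen3 w) u && Nat.beq (evW x y w) v

theorem link_check : links.all linkOk = true := by decide +kernel

/-- The third power of an automorphism fixes the generators. -/
def cubeOk : ℕ × ℕ × List (List ℕ) → Bool
  | (x, y, [wx, wy]) => Nat.beq (evW gen2 gen3 wx) x && Nat.beq (evW gen2 gen3 wy) y &&
      Nat.beq (evW (evW x y wx) (evW x y wy) wx) gen2 && Nat.beq (evW (evW x y wx) (evW x y wy) wy) gen3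
  | _ => false

theorem cube_check : cubeWords.all cubeOk = true ∧
    (cubeWords.map fun e => (e.1, e.2.1)) = [heTwin, heTab, normTab, normTwin] := by decide +kernel

theorem centre_check : dList.all (fun d => !(Nat.beq (fMul d gen0) (fMul gen0 d)) ||
    !(Nat.beq (fMul d gen2) (fMul gen2 d)) || !(Nat.beq (fMul d gen3) (fMul gen3 d)) ||
    [0, 1, 64, 65].contains d) = true := by decide +kernel

end CfsgLib.HeType.Side
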