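import Cfsg.Agent.Lib.HeType.Fusion.Coords
import Cfsg.Agent.Lib.HeType.Cert.FastEq
import Cfsg.Agent.Lib.HeType.Side.Checks

/-!
An element of order three cycling the three involutions of a fused four group, and its possible actions on their
common centraliser.
-/

set_option autoImplicit false
set_option linter.unusedSectionVars false
set_option maxRecDepth 100000

namespace CfsgLib.HeType.Side

open Subgroup CfsgLib.HeType.Cert

variable {G : Type*} [Group G]

/-- An element cycling the involutions with given images of the generators of the common centraliser. -/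
structure HasTab (t : G) (el : ℕ → G) (s : G) (p : ℕ × ℕ) : Prop where
  mapT : s * t * s⁻¹ = el 1
  mapA : s * el 1 * s⁻¹ = el 65
  on0 : s * el gen0 * s⁻¹ = el gen0
  on2 : s * el gen2 * s⁻¹ = el p.1
  on3 : s * el gen3 * s⁻¹ = el p.2

variable [Finite G] {t : G} {Q : Subgroup G} {x y r : G} {a b : ℕ → G}
  (C : Coords t Q R0 true x y r a b)

local notation "E" => cEl t a b x y r

include C

theorem el_mul {c d : ℕ} (hc : c < 21504) (hd : d < 21504) : E c * E d = E (fMul c d) ∧ fMul c d < 21504 := by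
  obtain ⟨h1, h2⟩ := C.cEl_mul hc hd
  rw [fMul_eq hc hd h2]
  exact ⟨h1, h2⟩

theorem el_comm (c : ℕ) : E c * t = t * E c := mem_centralizer_singleton_iff.1 C.cEl_mem

theorem el_top : E 64 = t := by
  rw [C.cEl_low (by norm_num), C.frame.el_top]

theorem el_a : E 1 = a 0 := by
  rw [C.cEl_low (by norm_num), ← C.frame.el_a (show 0 < 3 by norm_num)]
  rfl

theorem el_65 : E 65 = t * E 1 := by
  have h : fMul 64 1 = 65 := by decide +kernel
  rw [← h, ← (el_mul C (by norm_num : 64 < 21504) (by norm_num : 1 < 21504)).1, el_top C]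

theorem el_1_65 : E 1 * E 65 = t := by
  have h : fMul 1 65 = 64 := by decide +kernel
  rw [(el_mul C (by norm_num : 1 < 21504) (by norm_num : 65 < 21504)).1, h, el_top C]

theorem el_inj {c d : ℕ} (hc : c < 21504) (hd : d < 21504) (h : E c = E d) : c = d := C.cEl_inj hc hd h

theorem el_one {c : ℕ} (hc : c < 21504) (h : E c = 1) : c = 0 :=
  C.cEl_inj hc (by norm_num) (h.trans C.cEl_one.symm)

theorem el_comm_iff {c d : ℕ} (hc : c < 21504) (hd : d < 21504) :
    E c * E d = E d * E c ↔ fMul c d = fMul d c := by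
  rw [(el_mul C hc hd).1, (el_mul C hd hc).1]
  exact ⟨fun h => el_inj C (el_mul C hc hd).2 (el_mul C hd hc).2 h, fun h => h ▸ rfl⟩

theorem el_eq_of_conj {d c v : ℕ} (hd : d < 21504) (hc : c < 21504) (hv : v < 21504) :
    E d * E c * (E d)⁻¹ = E v ↔ fMul d c = fMul v d := by
  rw [mul_inv_eq_iff_eq_mul, (el_mul C hd hc).1, (el_mul C hv hd).1]
  exact ⟨fun h => el_inj C (el_mul C hd hc).2 (el_mul C hv hd).2 h, fun h => h ▸ rfl⟩

theorem conj_code {k u v : ℕ} (hk : k < 21504) (hu : u < 21504) (hv : v < 21504) (h : fMul k u = fMul v k) :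
    IsConj (E u) (E v) := isConj_iff.2 ⟨E k, (el_eq_of_conj C hk hu hv).2 h⟩

omit C in
theorem mem_dList {c : ℕ} : c ∈ dList ↔ c < 21504 ∧ fMul c 1 = fMul 1 c := by
  rw [← eq_of_beq d_check]
  simp only [dPart, List.mem_append, List.mem_filter, List.mem_range'_1, Nat.beq_eq]
  constructor
  · rintro (((⟨h, e⟩ | ⟨h, e⟩) | ⟨h, e⟩) | ⟨h, e⟩) <;> exact ⟨by omega, e⟩
  · rintro ⟨h, e⟩
    rcases Nat.lt_or_ge c 5376 with h1 | h1
    · exact .inl (.inl (.inl ⟨by omega, e⟩))
    rcases Nat.lt_or_ge c 10752 with h2 | h2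
    · exact .inl (.inl (.inr ⟨by omega, e⟩))
    rcases Nat.lt_or_ge c 16128 with h3 | h3
    · exact .inl (.inr ⟨by omega, e⟩)
    · exact .inr ⟨by omega, e⟩

omit C in
theorem dlt {c : ℕ} (h : c ∈ dList) : c < 21504 := (mem_dList.1 h).1

theorem comm_one {c : ℕ} (h : c ∈ dList) : E c * E 1 = E 1 * E c :=
  (el_comm_iff C (dlt h) (by norm_num)).2 (mem_dList.1 h).2

theorem exists_dcode {g : G} (h1 : g * t = t * g) (h2 : g * E 1 = E 1 * g) : ∃ c ∈ dList, E c = g := by
  obtain ⟨c, hc, rfl⟩ := C.cEl_surj (mem_centralizer_singleton_iff.2 h1)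
  exact ⟨c, mem_dList.2 ⟨hc, (el_comm_iff C hc (by norm_num)).1 h2⟩, rfl⟩

omit C in
theorem gens_spec : gen0 ∈ dList ∧ fMul gen0 gen0 ∈ dList ∧ gen2 ∈ dList ∧ gen3 ∈ dList ∧
    evW gen2 gen3 wordT = 64 ∧ evW gen2 gen3 wordA = 1 ∧ evW gen2 gen3 wordR = 0 ∧
    fMul gen0 (fMul gen0 gen0) = 0 ∧ fMul gen2 gen2 = 0 ∧ fMul gen3 gen3 = 0 ∧
    (∀ c ∈ candX, c ∈ dList) ∧ (∀ c ∈ candY, c ∈ dList) ∧ (∀ c ∈ centH, c ∈ dList) ∧ fMul 8 8 = 0 ∧
    ∀ k ∈ centH, fMul k gen0 = fMul gen0 k := by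
  have h := gens_check
  simp only [Bool.and_eq_true, List.all_eq_true, List.contains_iff_mem, Nat.beq_eq, List.mem_cons,
    List.not_mem_nil, or_false, forall_eq_or_imp, forall_eq] at h
  obtain ⟨⟨⟨⟨⟨⟨⟨⟨⟨⟨⟨⟨g0, g1, g2, g3⟩, hT⟩, hA⟩, hR⟩, h0⟩, h2⟩, h3⟩, hX⟩, hY⟩, hH⟩, h8⟩, hk⟩ := h
  exact ⟨g0, g1, g2, g3, hT, hA, hR, h0, h2, h3, hX, hY, hH, h8, hk⟩

/-- A conjugation fixing the first generator is computed on words. -/
theorem word_map {s : G} {u v : ℕ} (h0 : s * E gen0 * s⁻¹ = E gen0) (h2 : s * E gen2 * s⁻¹ = E u)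
    (h3 : s * E gen3 * s⁻¹ = E v) (hu : u < 21504) (hv : v < 21504) (w : List ℕ) :
    s * E (evW gen2 gen3 w) * s⁻¹ = E (evW u v w) ∧ evW gen2 gen3 w < 21504 ∧ evW u v w < 21504 := by
  obtain ⟨g0, g1, g2, g3, -⟩ := gens_spec
  have hl : ∀ i, s * E (letter gen2 gen3 i) * s⁻¹ = E (letter u v i) ∧ letter gen2 gen3 i < 21504 ∧
      letter u v i < 21504 := by
    intro i
    rcases i with _ | _ | _ | i
    · exact ⟨h0, dlt g0, dlt g0⟩
    · refine ⟨?_, dlt g1, dlt g1⟩
      show s * E (fMul gen0 gen0) * s⁻¹ = E (fMul gen0 gen0)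
      rw [← (el_mul C (dlt g0) (dlt g0)).1]
      calc s * (E gen0 * E gen0) * s⁻¹ = s * E gen0 * s⁻¹ * (s * E gen0 * s⁻¹) := by group
        _ = _ := by rw [h0]
    · exact ⟨h2, dlt g2, hu⟩
    · exact ⟨h3, dlt g3, hv⟩
  suffices H : ∀ p q, s * E p * s⁻¹ = E q → p < 21504 → q < 21504 →
      s * E (w.foldl (fun p i => fMul p (letter gen2 gen3 i)) p) * s⁻¹ =
        E (w.foldl (fun p i => fMul p (letter u v i)) q) ∧
      w.foldl (fun p i => fMul p (letter gen2 gen3 i)) p < 21504 ∧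
      w.foldl (fun p i => fMul p (letter u v i)) q < 21504 from
    H 0 0 (by rw [C.cEl_one]; group) (by norm_num) (by norm_num)
  induction w with
  | nil => exact fun p q h hp hq => ⟨h, hp, hq⟩
  | cons i w ih =>
    intro p q h hp hq
    obtain ⟨e, l1, l2⟩ := hl i
    refine ih _ _ ?_ (el_mul C hp l1).2 (el_mul C hq l2).2
    rw [← (el_mul C hp l1).1, ← (el_mul C hq l2).1, ← h, ← e]
    group

theorem not_fused_423 : ¬ IsConj t (E 423) := by
  intro hc
  have K := C.isCode Local.act0_ok Local.lmT_ok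
  obtain ⟨hr, hv⟩ := K.rep_lt Local.count0T (r := (423, 16, 0)) (by decide +kernel)
  have hsq : Local.fm Local.actT0 Local.lmT 423 423 = 0 := by decide +kernel
  have hi : Inv' t (E 423) := by
    refine ⟨K.mem 423 (by norm_num), ?_, ?_, ?_⟩
    · rw [K.mul 423 (by norm_num) 423 (by norm_num), hsq, K.el_zero]
    · intro h
      exact absurd (K.inj 423 (by norm_num) 0 (by norm_num) (h.trans K.el_zero.symm)) (by norm_num)
    · intro h
      exact absurd (K.inj 423 (by norm_num) 64 (by norm_num) (h.trans K.el_top.symm)) (by norm_num)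
  obtain ⟨g, -, hi', -, hs⟩ := exists_swap C.order_t hi hc
  obtain ⟨r, hr', r', hr'', hv1, -, e1, e2⟩ := K.swap_vals Local.complete0T Local.conj0T Local.count0T hi hi' hs
  have h2 : r.2 = (16, 0) := Prod.ext (hv1.1.symm.trans hv.1) (hv1.2.symm.trans hv.2)
  have key : (Local.reps0T.all fun r' => !(16 == r'.2.2 && 0 == r'.2.1)) = true := by decide +kernel
  have := List.all_eq_true.1 key r' hr''
  rw [h2] at e1 e2
  simp [← e1, ← e2] at this

theorem exists_cycle (hf : IsConj t (a 0)) : ∃ s, s * t * s⁻¹ = E 1 ∧ s * E 1 * s⁻¹ = E 65 := by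
  obtain ⟨g, hg⟩ := isConj_iff.1 hf.symm
  have hz := fused_partner C (.inl rfl) hg
  obtain ⟨v, hv, ev⟩ := (C.hQ _).1 hz
  rw [← C.cEl_low hv] at ev
  have hv' : v % 64 ≠ 0 := by
    intro h
    rcases (by omega : v = 0 ∨ v = 64) with rfl | rfl
    · rw [C.cEl_one] at ev
      have := (mul_inv_eq_one.1 ev.symm)
      rw [mul_eq_left] at this
      exact C.frame.t_ne this
    · rw [el_top C] at ev
      have h1 : a 0 = t := mul_left_cancel (mul_right_cancel (hg.trans ev))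
      have := el_inj C (show 1 < 21504 by norm_num) (show 64 < 21504 by norm_num)
        ((el_a C).trans (h1.trans (el_top C).symm))
      norm_num at this
  have key : ∀ v < 128, v % 64 ≠ 0 → ∃ i < 6, fMul (2 ^ i) v = fMul (fMul 64 v) (2 ^ i) := by decide +kernel
  obtain ⟨i, hi, he⟩ := key v hv hv'
  have hpi : 2 ^ i < 21504 := by interval_cases i <;> norm_num
  have hu : E (2 ^ i) * (g * t * g⁻¹) * (E (2 ^ i))⁻¹ = t * (g * t * g⁻¹) := by
    have h64v := el_mul C (show 64 < 21504 by norm_num) (show v < 21504 by omega)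
    rw [el_top C] at h64v
    rw [← ev, h64v.1]
    exact (el_eq_of_conj C hpi (by omega) h64v.2).2 he
  have hut : E (2 ^ i) * t * (E (2 ^ i))⁻¹ = t := by rw [el_comm C, mul_inv_cancel_right]
  set e := g⁻¹ * E (2 ^ i) * g with hedef
  have he1 : e * t * e⁻¹ = a 0 * t := by
    calc e * t * e⁻¹ = g⁻¹ * (E (2 ^ i) * (g * t * g⁻¹) * (E (2 ^ i))⁻¹) * g := by rw [hedef]; group
      _ = g⁻¹ * ((g * a 0 * g⁻¹) * (g * t * g⁻¹)) * g := by rw [hu, hg]
      _ = a 0 * t := by group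
  have he2 : e * a 0 * e⁻¹ = a 0 := by
    calc e * a 0 * e⁻¹ = g⁻¹ * (E (2 ^ i) * (g * a 0 * g⁻¹) * (E (2 ^ i))⁻¹) * g := by rw [hedef]; group
      _ = g⁻¹ * (g * a 0 * g⁻¹) * g := by rw [hg, hut]
      _ = a 0 := by group
  have hc : fMul 8 65 = fMul 1 8 ∧ fMul 8 1 = fMul 65 8 := by decide +kernel
  refine ⟨E 8 * e, ?_, ?_⟩
  · calc E 8 * e * t * (E 8 * e)⁻¹ = E 8 * (e * t * e⁻¹) * (E 8)⁻¹ := by group
      _ = E 8 * E 65 * (E 8)⁻¹ := by
          rw [he1, el_65 C, el_a C, C.frame.ta 0 (by norm_num) |>.eq]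
      _ = E 1 := (el_eq_of_conj C (by norm_num) (by norm_num) (by norm_num)).2 hc.1
  · calc E 8 * e * E 1 * (E 8 * e)⁻¹ = E 8 * (e * E 1 * e⁻¹) * (E 8)⁻¹ := by group
      _ = E 8 * E 1 * (E 8)⁻¹ := by rw [el_a C, he2]
      _ = E 65 := (el_eq_of_conj C (by norm_num) (by norm_num) (by norm_num)).2 hc.2

theorem map_65 {s : G} (hT : s * t * s⁻¹ = E 1) (hA : s * E 1 * s⁻¹ = E 65) : s * E 65 * s⁻¹ = t := by
  rw [el_65 C, show s * (t * E 1) * s⁻¹ = s * t * s⁻¹ * (s * E 1 * s⁻¹) by group, hT, hA, el_1_65 C]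

/-- The common centraliser is normalised. -/
theorem image_mem {s : G} (hT : s * t * s⁻¹ = E 1) (hA : s * E 1 * s⁻¹ = E 65) {c : ℕ} (hc : c ∈ dList) :
    ∃ d ∈ dList, s * E c * s⁻¹ = E d := by
  have k : ∀ u v : G, E c * u = u * E c → s * u * s⁻¹ = v → s * E c * s⁻¹ * v = v * (s * E c * s⁻¹) := by
    rintro u v h rfl
    exact CfsgLib.HeType.conj_comm s h
  have h1 := k _ _ (el_comm C c) hT
  have h65 : E c * E 65 = E 65 * E c := by
    rw [el_65 C, ← mul_assoc, el_comm C, mul_assoc, comm_one C hc, ← mul_assoc]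
  have ht := k _ _ h65 (map_65 C hT hA)
  obtain ⟨d, hd, e⟩ := exists_dcode C ht h1
  exact ⟨d, hd, e.symm⟩

theorem keep {s : G} (hT : s * t * s⁻¹ = E 1) (hA : s * E 1 * s⁻¹ = E 65) {d : ℕ} (hd : d ∈ dList) :
    E d * s * t * (E d * s)⁻¹ = E 1 ∧ E d * s * E 1 * (E d * s)⁻¹ = E 65 := by
  constructor
  · rw [show E d * s * t * (E d * s)⁻¹ = E d * (s * t * s⁻¹) * (E d)⁻¹ by group, hT, comm_one C hd,
      mul_inv_cancel_right]
  · rw [show E d * s * E 1 * (E d * s)⁻¹ = E d * (s * E 1 * s⁻¹) * (E d)⁻¹ by group, hA, el_65 C, ← mul_assoc,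
      el_comm C, mul_assoc t, comm_one C hd, ← mul_assoc, mul_inv_cancel_right]

/-- Some cycling element has one of the listed tables. -/
theorem exists_tab (hf : IsConj t (a 0)) : ∃ s p, p ∈ autPairs ∧ HasTab t E s p := by
  obtain ⟨g0, g1, g2, g3, wT, wA, wR, h03, h22, h33, -, -, hH, -, hk0⟩ := gens_spec
  obtain ⟨s₀, hT₀, hA₀⟩ := exists_cycle C hf
  -- the first generator
  obtain ⟨c, hc, ec⟩ := image_mem C hT₀ hA₀ g0
  have hc3 : fMul c (fMul c c) = 0 := by
    refine el_one C (el_mul C (dlt hc) (el_mul C (dlt hc) (dlt hc)).2).2 ?_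
    rw [← (el_mul C (dlt hc) (el_mul C (dlt hc) (dlt hc)).2).1, ← (el_mul C (dlt hc) (dlt hc)).1, ← ec,
      show s₀ * E gen0 * s₀⁻¹ * (s₀ * E gen0 * s₀⁻¹ * (s₀ * E gen0 * s₀⁻¹)) = s₀ * (E gen0 * (E gen0 * E gen0)) * s₀⁻¹
        by group,
      (el_mul C (dlt g0) (dlt g0)).1, (el_mul C (dlt g0) (dlt g1)).1, h03, C.cEl_one]
    group
  have hc0 : c ≠ 0 := by
    rintro rfl
    rw [C.cEl_one, mul_inv_eq_one, mul_eq_left] at ec
    exact absurd (el_one C (dlt g0) ec) (by decide)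
  have h := List.all_eq_true.1 ord3_check c hc
  simp only [Bool.or_eq_true, Bool.not_eq_true', Bool.and_eq_true, List.any_eq_true, List.contains_iff_mem,
    Nat.beq_eq] at h
  obtain ⟨⟨c', d⟩, -, ⟨rfl, hd⟩, hdc⟩ : ∃ p ∈ ord3Conj, (p.1 = c ∧ p.2 ∈ dList) ∧
      fMul p.2 c = fMul gen0 p.2 := by
    rcases h with (h | h) | h
    · rw [hc3] at h; exact absurd h (by decide)
    · exact absurd h hc0
    · exact h
  obtain ⟨hT₁, hA₁⟩ := keep C hT₀ hA₀ hd
  set s₁ := E d * s₀ with hs₁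
  have h01 : s₁ * E gen0 * s₁⁻¹ = E gen0 := by
    rw [show s₁ * E gen0 * s₁⁻¹ = E d * (s₀ * E gen0 * s₀⁻¹) * (E d)⁻¹ by rw [hs₁]; group, ec]
    exact (el_eq_of_conj C (dlt hd) (dlt hc) (dlt g0)).2 hdc
  -- an image of an involution
  have invo : ∀ {s : G} {g v : ℕ}, g < 21504 → v < 21504 → g ≠ 0 → fMul g g = 0 → s * E g * s⁻¹ = E v →
      fMul v v = 0 ∧ v ≠ 0 := by
    intro s g v hg hv hg0 hg2 e
    refine ⟨el_one C (el_mul C hv hv).2 ?_, ?_⟩
    · rw [← (el_mul C hv hv).1, ← e, show s * E g * s⁻¹ * (s * E g * s⁻¹) = s * (E g * E g) * s⁻¹ by group,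
        (el_mul C hg hg).1, hg2, C.cEl_one]
      group
    · rintro rfl
      rw [C.cEl_one, mul_inv_eq_one, mul_eq_left] at e
      exact hg0 (el_one C hg e)
  -- the second generator
  obtain ⟨u, hu, eu⟩ := image_mem C hT₁ hA₁ g2
  obtain ⟨hu2, hu0⟩ := invo (dlt g2) (dlt hu) (by decide) h22 eu
  have h := List.all_eq_true.1 x_check u hu
  simp only [xOk, Bool.or_eq_true, Bool.not_eq_true', List.any_eq_true, Bool.and_eq_true, List.contains_iff_mem,
    Nat.beq_eq] at h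
  obtain ⟨k, hk, k', hk', hkk, hm⟩ : ∃ k ∈ centH, ∃ k' ∈ centH, fMul k k' = 0 ∧
      fMul (fMul k u) k' ∈ candX := by
    rcases h with (h | h) | h
    · rw [hu2] at h; exact absurd h (by decide)
    · exact absurd h hu0
    · exact h
  obtain ⟨hT, hA⟩ := keep C hT₁ hA₁ (hH k hk)
  set s := E k * s₁ with hs
  have hkl := dlt (hH k hk)
  have h0 : s * E gen0 * s⁻¹ = E gen0 := by
    rw [show s * E gen0 * s⁻¹ = E k * (s₁ * E gen0 * s₁⁻¹) * (E k)⁻¹ by rw [hs]; group, h01]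
    exact (el_eq_of_conj C hkl (dlt g0) (dlt g0)).2 (hk0 k hk)
  have h2 : s * E gen2 * s⁻¹ = E (fMul (fMul k u) k') := by
    rw [show s * E gen2 * s⁻¹ = E k * (s₁ * E gen2 * s₁⁻¹) * (E k)⁻¹ by rw [hs]; group, eu,
      ← (el_mul C (el_mul C hkl (dlt hu)).2 (dlt (hH k' hk'))).1, ← (el_mul C hkl (dlt hu)).1]
    congr 1
    exact inv_eq_of_mul_eq_one_right (by rw [(el_mul C hkl (dlt (hH k' hk'))).1, hkk, C.cEl_one])
  set X := fMul (fMul k u) k'
  have hXl : X < 21504 := (el_mul C (el_mul C hkl (dlt hu)).2 (dlt (hH k' hk'))).2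
  -- the third generator
  obtain ⟨Y, hY, eY⟩ := image_mem C hT hA g3
  obtain ⟨hY2, hY0⟩ := invo (dlt g3) (dlt hY) (by decide) h33 eY
  have hword := fun w => word_map C h0 h2 eY hXl (dlt hY) w
  have hR : evW 0 Y wordR = 0 := by
    have e := (hword wordR).1
    rw [wR, C.cEl_one, mul_one, mul_inv_cancel] at e
    exact el_one C (hword wordR).2.2 (by rw [← e]) ▸ rfl
  have hYc : Y ∈ candY := by
    have h := List.all_eq_true.1 y_check Y hY
    simp only [Bool.or_eq_true, Bool.not_eq_true', List.contains_iff_mem, Nat.beq_eq] at h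
    rcases h with ((h | h) | h) | h
    · rw [hY2] at h; exact absurd h (by decide)
    · exact absurd h hY0
    · rw [hR] at h; exact absurd h (by decide)
    · exact h
  have hAw : evW X Y wordA = 65 := by
    have e := (hword wordA).1
    rw [wA, hA] at e
    exact (el_inj C (by norm_num) (hword wordA).2.2 e).symm
  have hTw : evW X Y wordT = 1 := by
    have e := (hword wordT).1
    rw [wT, el_top C, hT] at e
    exact (el_inj C (by norm_num) (hword wordT).2.2 e).symm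
  have hp := List.all_eq_true.1 (List.all_eq_true.1 pair_check X hm) Y hYc
  simp only [hAw, hTw, Bool.or_eq_true, Bool.not_eq_true', List.contains_iff_mem] at hp
  rcases hp with (h | h) | h
  · exact absurd h (by decide)
  · exact absurd h (by decide)
  · exact ⟨s, _, h, ⟨hT, hA, h0, h2, eY⟩⟩

variable {s : G} {p : ℕ × ℕ}

omit C in
theorem pair_mem {p : ℕ × ℕ} (h : p ∈ autPairs) : p.1 < 21504 ∧ p.2 < 21504 := by
  have key : autPairs.all (fun p => Nat.blt p.1 21504 && Nat.blt p.2 21504) = true := by decide +kernel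
  simpa [Nat.blt_eq] using List.all_eq_true.1 key p h

/-- Images without a transposition do not occur. -/
theorem no_flip (hp : p ∈ autPairs) (T : HasTab t E s p) : p ∉ noFlip.map fun e => (e.1, e.2.1) := by
  intro hmem
  obtain ⟨⟨u, v, ws⟩, he, rfl⟩ := List.mem_map.1 hmem
  have h := List.all_eq_true.1 flip_check _ he
  obtain ⟨hu, hv⟩ := pair_mem hp
  rcases ws with _ | ⟨w0, _ | ⟨w2, _ | ⟨w3, _ | ⟨w4, ws⟩⟩⟩⟩ <;> simp only [flipOk] at h <;>
    try exact Bool.false_ne_true h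
  simp only [Bool.and_eq_true, Nat.beq_eq, List.all_eq_true, Bool.or_eq_true, Bool.not_eq_true'] at h
  obtain ⟨⟨⟨e0, e2⟩, e3⟩, hall⟩ := h
  obtain ⟨g0, g1, g2, g3, -, -, -, -, -, -, -, -, -, h88, -⟩ := gens_spec
  set c := E 8 with hc
  have h8 : (8 : ℕ) < 21504 := by norm_num
  have hci : c⁻¹ = c := inv_eq_of_mul_eq_one_right (by rw [hc, (el_mul C h8 h8).1, h88, C.cEl_one])
  have hw := word_map C T.on0 T.on2 T.on3 hu hv
  set W := c * s * c⁻¹ * s with hW
  have hct : c * t * c⁻¹ = t := by rw [hc, el_comm C, mul_inv_cancel_right]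
  have h65 := map_65 C T.mapT T.mapA
  have hswap : fMul 8 1 = fMul 65 8 ∧ fMul 8 65 = fMul 1 8 := by decide +kernel
  have hc1 : c * E 1 * c⁻¹ = E 65 := (el_eq_of_conj C h8 (by norm_num) (by norm_num)).2 hswap.1
  have hc65 : c * E 65 * c⁻¹ = E 1 := (el_eq_of_conj C h8 (by norm_num) (by norm_num)).2 hswap.2
  have hWt : W * t * W⁻¹ = t := by
    calc W * t * W⁻¹ = c * (s * (c⁻¹ * (s * t * s⁻¹) * c) * s⁻¹) * c⁻¹ := by rw [hW]; group
      _ = c * (s * (c * E 1 * c⁻¹) * s⁻¹) * c⁻¹ := by rw [T.mapT, hci]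
      _ = c * (s * E 65 * s⁻¹) * c⁻¹ := by rw [hc1]
      _ = t := by rw [h65, hct]
  have hW1 : W * E 1 * W⁻¹ = E 1 := by
    calc W * E 1 * W⁻¹ = c * (s * (c⁻¹ * (s * E 1 * s⁻¹) * c) * s⁻¹) * c⁻¹ := by rw [hW]; group
      _ = c * (s * (c * E 65 * c⁻¹) * s⁻¹) * c⁻¹ := by rw [T.mapA, hci]
      _ = c * (s * E 1 * s⁻¹) * c⁻¹ := by rw [hc65]
      _ = E 1 := by rw [T.mapA, hc65]
  obtain ⟨d, hd, ed⟩ := exists_dcode C (mul_inv_eq_iff_eq_mul.1 hWt) (mul_inv_eq_iff_eq_mul.1 hW1)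
  have hstep : ∀ (g X : ℕ) (w : List ℕ), g < 21504 → s * E g * s⁻¹ = E X → X < 21504 →
      fMul 8 (evW gen2 gen3 w) = fMul X 8 → fMul d g = fMul (fMul (fMul 8 (evW u v w)) 8) d := by
    intro g X w hg hX hXl he
    obtain ⟨e, l1, l2⟩ := hw w
    have l3 := (el_mul C (el_mul C h8 l2).2 h8).2
    refine (el_eq_of_conj C (dlt hd) hg l3).1 ?_
    have he' : c⁻¹ * E X * c = E (evW gen2 gen3 w) := by
      rw [hc, mul_assoc, ← (el_eq_of_conj C h8 l1 hXl).2 he]; group
    rw [ed, ← (el_mul C (el_mul C h8 l2).2 h8).1, ← (el_mul C h8 l2).1]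
    calc W * E g * W⁻¹ = c * (s * (c⁻¹ * (s * E g * s⁻¹) * c) * s⁻¹) * c⁻¹ := by rw [hW]; group
      _ = c * E (evW u v w) * c⁻¹ := by rw [hX, he', e]
      _ = c * E (evW u v w) * c := by rw [hci]
  rcases hall d hd with (h | h) | h
  · rw [hstep gen0 gen0 w0 (dlt g0) T.on0 (dlt g0) e0] at h; simp at h
  · rw [hstep gen2 u w2 (dlt g2) T.on2 hu e2] at h; simp at h
  · rw [hstep gen3 v w3 (dlt g3) T.on3 hv e3] at h; simp at h

/-- A link between two involutions. -/
theorem link (hp : p ∈ autPairs) (T : HasTab t E s p) {u v : ℕ} {w : List ℕ}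
    (h : (p.1, p.2, u, w, v) ∈ links) : IsConj (E u) (E v) := by
  have hl := List.all_eq_true.1 link_check _ h
  simp only [linkOk, Bool.and_eq_true, Nat.beq_eq] at hl
  obtain ⟨e, -, -⟩ := word_map C T.on0 T.on2 T.on3 (pair_mem hp).1 (pair_mem hp).2 w
  rw [hl.1, hl.2] at e
  exact isConj_iff.2 ⟨s, e⟩

/-- The element has order three. -/
theorem cube (hp : p ∈ autPairs) (T : HasTab t E s p)
    (h : p ∈ cubeWords.map fun e => (e.1, e.2.1)) : s * s * s = 1 := by
  obtain ⟨⟨u, v, ws⟩, he, rfl⟩ := List.mem_map.1 h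
  have hc := List.all_eq_true.1 cube_check.1 _ he
  obtain ⟨hu, hv⟩ := pair_mem hp
  rcases ws with _ | ⟨wx, _ | ⟨wy, _ | ⟨w4, ws⟩⟩⟩ <;> simp only [cubeOk] at hc <;>
    try exact absurd hc Bool.false_ne_true
  simp only [Bool.and_eq_true, Nat.beq_eq] at hc
  obtain ⟨⟨⟨ex, ey⟩, cx⟩, cy⟩ := hc
  obtain ⟨g0, g1, g2, g3, -⟩ := gens_spec
  have hw := word_map C T.on0 T.on2 T.on3 hu hv
  have mul2 : ∀ (p q : G) (g : G), p * q * g * (p * q)⁻¹ = p * (q * g * q⁻¹) * p⁻¹ := fun p q g => by group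
  have s0 : s * s * E gen0 * (s * s)⁻¹ = E gen0 := by rw [mul2, T.on0, T.on0]
  obtain ⟨ax, -, lx⟩ := hw wx
  obtain ⟨ay, -, ly⟩ := hw wy
  rw [ex] at ax
  rw [ey] at ay
  have s2 : s * s * E gen2 * (s * s)⁻¹ = E (evW u v wx) := by rw [mul2, T.on2]; exact ax
  have s3 : s * s * E gen3 * (s * s)⁻¹ = E (evW u v wy) := by rw [mul2, T.on3]; exact ay
  have hw2 := word_map C s0 s2 s3 lx ly
  have k0 : s * s * s * E gen0 * (s * s * s)⁻¹ = E gen0 := by rw [mul2, T.on0, s0]
  have k2 : s * s * s * E gen2 * (s * s * s)⁻¹ = E gen2 := by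
    have e := (hw2 wx).1
    rw [ex, cx] at e
    rw [mul2, T.on2]; exact e
  have k3 : s * s * s * E gen3 * (s * s * s)⁻¹ = E gen3 := by
    have e := (hw2 wy).1
    rw [ey, cy] at e
    rw [mul2, T.on3]; exact e
  have kt : s * s * s * t * (s * s * s)⁻¹ = t := by rw [mul2, T.mapT, mul2, T.mapA, map_65 C T.mapT T.mapA]
  have k1 : s * s * s * E 1 * (s * s * s)⁻¹ = E 1 := by
    rw [mul2, T.mapA, mul2, map_65 C T.mapT T.mapA, T.mapT]
  obtain ⟨d, hd, ed⟩ := exists_dcode C (mul_inv_eq_iff_eq_mul.1 kt) (mul_inv_eq_iff_eq_mul.1 k1)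
  have hz := List.all_eq_true.1 centre_check d hd
  rw [← ed] at k0 k2 k3
  simp only [(el_eq_of_conj C (dlt hd) (dlt g0) (dlt g0)).1 k0, (el_eq_of_conj C (dlt hd) (dlt g2) (dlt g2)).1 k2,
    (el_eq_of_conj C (dlt hd) (dlt g3) (dlt g3)).1 k3, Bool.or_eq_true, Bool.not_eq_true', List.contains_iff_mem,
    List.mem_cons, List.not_mem_nil, or_false] at hz
  have hs : s * E d * s⁻¹ = E d := by rw [ed]; group
  have ne : ∀ {i j : ℕ}, i < 21504 → j < 21504 → i ≠ j → E i ≠ E j := fun hi hj h e => h (el_inj C hi hj e)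
  rcases hz with ((h | h) | h) | rfl | rfl | rfl | rfl
  · simp at h
  · simp at h
  · simp at h
  · rw [← ed, C.cEl_one]
  · exact absurd (T.mapA.symm.trans hs) (ne (by norm_num) (by norm_num) (by norm_num))
  · rw [el_top C, T.mapT] at hs
    exact absurd (hs.trans (el_top C).symm) (ne (by norm_num) (by norm_num) (by norm_num))
  · rw [map_65 C T.mapT T.mapA] at hs
    exact absurd ((el_top C).trans hs) (ne (by norm_num) (by norm_num) (by norm_num))

/-- The classification: Held type, or one of two types normalising the elementary group of order sixteen. -/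
theorem classify (hf : IsConj t (a 0)) : ∃ s, s * s * s = 1 ∧
    ((HasTab t E s heTab ∧ IsConj t (E 8) ∧ IsConj t (E 392) ∧ IsConj t (E 393)) ∨
      (HasTab t E s normTab ∧ IsConj (E 392) (E 10) ∧ IsConj (E 393) (E 8) ∧ IsConj (E 423) (E 10)) ∨
      (HasTab t E s normTwin ∧ ¬ IsConj t (E 8))) := by
  obtain ⟨s, p, hp, T⟩ := exists_tab C hf
  have hsplit := List.all_eq_true.1 split_check p hp
  simp only [Bool.or_eq_true, List.contains_iff_mem] at hsplit
  have h4 := hsplit.resolve_left (no_flip C hp T)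
  have h3 : s * s * s = 1 := cube C hp T (by
    rw [cube_check.2]
    simp only [List.mem_cons, List.not_mem_nil, or_false] at h4 ⊢
    tauto)
  have cc : ∀ k u v, (k < 21504 ∧ u < 21504 ∧ v < 21504 ∧ fMul k u = fMul v k) → IsConj (E u) (E v) :=
    fun k u v h => conj_code C h.1 h.2.1 h.2.2.1 h.2.2.2
  have hta : IsConj t (E 1) := by rw [el_a C]; exact hf
  simp only [List.mem_cons, List.not_mem_nil, or_false] at h4
  refine ⟨s, h3, ?_⟩
  rcases h4 with rfl | rfl | rfl | rfl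
  · have l1 : IsConj (E 16433) (E 69) := link C hp T (w := [0, 2, 3, 0, 2, 3]) (by decide)
    have l2 : IsConj (E 1465) (E 14611) := link C hp T (w := [0, 2, 0, 2, 3, 1, 2, 3]) (by decide)
    have l3 : IsConj (E 112) (E 14506) := link C hp T (w := [0, 2, 1, 3, 0, 2, 1, 3]) (by decide)
    have h392 : IsConj t (E 392) := hta.trans ((cc 5256 1 69 (by decide +kernel)).trans
      (l1.symm.trans (cc 5130 392 16433 (by decide +kernel)).symm))
    have h393 : IsConj t (E 393) := h392.trans ((cc 1940 392 14611 (by decide +kernel)).trans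
      (l2.symm.trans (cc 272 393 1465 (by decide +kernel)).symm))
    have h8 : IsConj t (E 8) := h393.trans ((cc 1540 393 14506 (by decide +kernel)).trans
      (l3.symm.trans (cc 3840 8 112 (by decide +kernel)).symm))
    exact .inl ⟨T, h8, h392, h393⟩
  · -- the twin of the Held type joins a class which is never fused
    exfalso
    have l1 : IsConj (E 16433) (E 69) := link C hp T (w := [0, 2, 3, 0, 2, 3]) (by decide)
    have l2 : IsConj (E 422) (E 423) := link C hp T (w := [2]) (by decide)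
    have h392 : IsConj t (E 392) := hta.trans ((cc 5256 1 69 (by decide +kernel)).trans
      (l1.symm.trans (cc 5130 392 16433 (by decide +kernel)).symm))
    exact not_fused_423 C (h392.trans ((cc 18 392 422 (by decide +kernel)).trans l2))
  · have l1 : IsConj (E 112) (E 16436) := link C hp T (w := [0, 2, 1, 3, 0, 2, 1, 3]) (by decide)
    have l2 : IsConj (E 92) (E 19480) := link C hp T (w := [0, 2, 0, 2]) (by decide)
    have l3 : IsConj (E 16428) (E 105) := link C hp T (w := [0, 2, 3, 2, 1, 3]) (by decide)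
    exact .inr (.inl ⟨T,
      (cc 3848 392 19480 (by decide +kernel)).trans (l2.symm.trans (cc 2176 10 92 (by decide +kernel)).symm),
      (cc 5128 393 16436 (by decide +kernel)).trans (l1.symm.trans (cc 3840 8 112 (by decide +kernel)).symm),
      (cc 5130 423 16428 (by decide +kernel)).trans (l3.trans (cc 4226 10 105 (by decide +kernel)).symm)⟩)
  · refine .inr (.inr ⟨T, fun h => not_fused_42 C (h.trans ?_)⟩)
    have l1 : IsConj (E 112) (E 16436) := link C hp T (w := [0, 2, 1, 3, 0, 2, 1, 3]) (by decide)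
    have l2 : IsConj (E 92) (E 19480) := link C hp T (w := [0, 2, 0, 2]) (by decide)
    have l3 : IsConj (E 1465) (E 16741) := link C hp T (w := [0, 2, 0, 2, 3, 1, 2, 3]) (by decide)
    exact (cc 3840 8 112 (by decide +kernel)).trans (l1.trans ((cc 5128 393 16436 (by decide +kernel)).symm.trans
      ((cc 272 393 1465 (by decide +kernel)).trans (l3.trans ((cc 546 392 16741 (by decide +kernel)).symm.trans
        ((cc 3848 392 19480 (by decide +kernel)).trans (l2.symm.trans (cc 2176 10 92 (by decide +kernel)).symm)))))))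

end CfsgLib.HeType.Side
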