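import Cfsg.Agent.Lib.HeType.Side.Tables
import Cfsg.Agent.Lib.HeType.Cert.Sys
import Cfsg.Agent.Lib.HeType.Cert.AutSide
import Cfsg.Agent.Lib.HeldTri.Generated.Apply
import Cfsg.Agent.Lib.HeldTri.Generated.Odd

/-!
# Fusion of the eight classes by the cycling elements, inside a subgroup containing them
-/

set_option autoImplicit false
set_option linter.unusedSectionVars false
set_option maxRecDepth 100000

namespace CfsgLib.HeType.Side

open Subgroup CfsgLib.HeType.Cert CfsgLib.HeldTri
open CfsgLib.HeldTri.Gen (reps)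

variable {G : Type*} [Group G]

/-- Conjugate by an element of the subgroup. -/
def HC (K : Subgroup G) (u v : G) : Prop := ∃ h ∈ K, h * u * h⁻¹ = v

namespace HC

variable {K : Subgroup G} {u v w : G}

theorem refl (u : G) : HC K u u := ⟨1, one_mem K, by group⟩

theorem symm (h : HC K u v) : HC K v u := by
  obtain ⟨k, hk, rfl⟩ := h
  exact ⟨k⁻¹, inv_mem hk, by group⟩

theorem trans (h : HC K u v) (h' : HC K v w) : HC K u w := by
  obtain ⟨k, hk, rfl⟩ := h
  obtain ⟨l, hl, rfl⟩ := h'
  exact ⟨l * k, mul_mem hl hk, by group⟩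

theorem isConj (h : HC K u v) : IsConj u v := by
  obtain ⟨k, -, e⟩ := h
  exact isConj_iff.2 ⟨k, e⟩

theorem of_conj {s : G} (hs : s ∈ K) (e : s * u * s⁻¹ = v) : HC K u v := ⟨s, hs, e⟩

end HC

/-- Two codes in the classes of two representatives. -/
def edgeOk (r₁ a ga r₂ b gb : ℕ) : Bool :=
  Nat.blt r₁ 21504 && Nat.blt a 21504 && Nat.blt ga 21504 && Nat.blt r₂ 21504 && Nat.blt b 21504 &&
    Nat.blt gb 21504 && Nat.beq (fMul ga r₁) (fMul a ga) && Nat.beq (fMul gb r₂) (fMul b gb)

theorem he_edges : edgeOk 1 2 128 392 14553 1636 = true ∧ edgeOk 8 24 2179 393 16437 5248 = true ∧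
    edgeOk 10 25 4096 423 16500 6272 = true ∧ edgeOk 392 392 0 393 417 4674 = true ∧
    ([(32, 64, 1), (2, 2, 14553), (8, 24, 16437), (9, 25, 16500), (128, 392, 417)].all fun p =>
      Nat.beq (fld' (bGet psiTab p.1 0) 0) p.2.1 && Nat.beq (fld' (bGet psiTab p.1 0) 2) p.2.2) = true := by
  decide +kernel

/-- Words and images of the codes used by the normalising types. -/
def normLinks : List (ℕ × List ℕ × ℕ) := [
  (24, [0, 2, 3, 2, 3, 0, 2, 3, 2, 0], 19487), (28, [0, 3, 1, 2, 1, 2, 3, 1], 19481),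
  (25, [0, 3, 1, 2, 3, 2], 19550)]

theorem norm_edges : edgeOk 8 24 2179 393 19487 4480 = true ∧ edgeOk 10 28 2179 392 19481 4482 = true ∧
    edgeOk 10 25 4096 423 19550 3908 = true ∧ edgeOk 10 20 128 385 18884 2560 = true ∧
    ([normTab, normTwin].all fun p => normLinks.all fun l =>
      Nat.beq (evW gen2 gen3 l.2.1) l.1 && Nat.beq (evW p.1 p.2 l.2.1) l.2.2) = true ∧
    evW gen2 gen3 [3, 0, 2, 0, 2, 3] = 29 ∧ evW normTab.1 normTab.2 [3, 0, 2, 0, 2, 3] = 19544 ∧
    Aut.piC 29 = 20 ∧ Aut.piC 19544 = 18884 := by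
  decide +kernel

variable [Finite G] {t : G} {Q : Subgroup G} {x y r : G} {a b : ℕ → G}
  (C : Coords t Q R0 true x y r a b) {K : Subgroup G} (hC : centralizer ({t} : Set G) ≤ K)

local notation "E" => cEl t a b x y r

include C hC

theorem code_hc {g u v : ℕ} (hg : g < 21504) (hu : u < 21504) (hv : v < 21504) (h : fMul g u = fMul v g) :
    HC K (E u) (E v) :=
  .of_conj (hC C.cEl_mem) ((el_eq_of_conj C hg hu hv).2 h)

theorem edge_hc {r₁ a' ga r₂ b' gb : ℕ} (h : edgeOk r₁ a' ga r₂ b' gb = true) (hab : HC K (E a') (E b')) :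
    HC K (E r₁) (E r₂) := by
  simp only [edgeOk, Bool.and_eq_true, Nat.blt_eq, Nat.beq_eq] at h
  obtain ⟨⟨⟨⟨⟨⟨⟨h1, ha⟩, hga⟩, h2⟩, hb⟩, hgb⟩, e1⟩, e2⟩ := h
  exact ((code_hc C hC hga h1 ha e1).trans hab).trans (code_hc C hC hgb h2 hb e2).symm

/-- The links of the Held type. -/
theorem he_links {s : G} {R : List (List ℕ × List ℕ)} (S : Cert.Sys E s psiTab R) (hs : s ∈ K) :
    HC K t (E 1) ∧ HC K (E 1) (E 392) ∧ HC K (E 8) (E 393) ∧ HC K (E 392) (E 393) ∧ HC K (E 10) (E 423) := by
  obtain ⟨e1, e2, e3, e4, hp⟩ := he_edges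
  have sinv : s ^ 2 = s⁻¹ := eq_inv_of_mul_eq_one_left (by rw [← pow_succ, S.cube])
  have hlink : ∀ j u v, (j, u, v) ∈ [(32, 64, 1), (2, 2, 14553), (8, 24, 16437), (9, 25, 16500), (128, 392, 417)] →
      HC K (E u) (E v) := by
    intro j u v hm
    have h := List.all_eq_true.1 hp _ hm
    simp only [Bool.and_eq_true, Nat.beq_eq] at h
    obtain ⟨-, -, h2⟩ := S.tab' j
    rw [h.1, h.2, sinv] at h2
    refine .of_conj hs ?_
    calc s * E u * s⁻¹ = s * (s⁻¹ * E v) := by rw [← h2]; group
      _ = E v := mul_inv_cancel_left s _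
  refine ⟨?_, edge_hc C hC e1 (hlink 2 _ _ (by simp)), edge_hc C hC e2 (hlink 8 _ _ (by simp)),
    edge_hc C hC e4 (hlink 128 _ _ (by simp)), edge_hc C hC e3 (hlink 9 _ _ (by simp))⟩
  have h := hlink 32 64 1 (by simp)
  rwa [el_top C] at h

/-- The links of the two normalising types. -/
theorem norm_links {s : G} {p : ℕ × ℕ} (hp : p = normTab ∨ p = normTwin) (T : HasTab t E s p) (hs : s ∈ K) :
    HC K t (E 1) ∧ HC K (E 8) (E 393) ∧ HC K (E 10) (E 392) ∧ HC K (E 10) (E 423) := by
  obtain ⟨e1, e2, e3, -, hl, -⟩ := norm_edges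
  have hlt : p.1 < 21504 ∧ p.2 < 21504 := by rcases hp with rfl | rfl <;> decide
  have hm : ∀ l ∈ normLinks, HC K (E l.1) (E l.2.2) := by
    intro l hl'
    have h := List.all_eq_true.1 (List.all_eq_true.1 hl p (by rcases hp with rfl | rfl <;> simp)) l hl'
    simp only [Bool.and_eq_true, Nat.beq_eq] at h
    obtain ⟨e, -, -⟩ := word_map C T.on0 T.on2 T.on3 hlt.1 hlt.2 l.2.1
    rw [h.1, h.2] at e
    exact .of_conj hs e
  exact ⟨.of_conj hs T.mapT, edge_hc C hC e1 (hm _ (List.mem_cons_self ..)),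
    edge_hc C hC e2 (hm _ (List.mem_cons_of_mem _ (List.mem_cons_self ..))),
    edge_hc C hC e3 (hm _ (List.mem_cons_of_mem _ (List.mem_cons_of_mem _ (List.mem_cons_self ..))))⟩

/-- The links of the normalising type on the second side. -/
theorem swap_links {s : G} (T : HasTab t (cEl t (swA t a b) (swB t a b) x⁻¹ y (t * r)) s normTab) (hs : s ∈ K) :
    HC K t (E 8) ∧ HC K (E 10) (E 385) := by
  obtain ⟨-, -, -, e4, -, w1, w2, p1, p2⟩ := norm_edges
  obtain ⟨e, l1, l2⟩ := word_map C.swap_exact.1 T.on0 T.on2 T.on3 (u := normTab.1) (v := normTab.2)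
    (by decide) (by decide) [3, 0, 2, 0, 2, 3]
  rw [w1, w2, (Aut.el_pi C (show 29 < 21504 by norm_num)).2, p1,
    (Aut.el_pi C (show 19544 < 21504 by norm_num)).2, p2] at e
  have hT := T.mapT
  rw [(Aut.el_pi C (show 1 < 21504 by norm_num)).2, swap_ok.2.2.1] at hT
  exact ⟨.of_conj hs hT, edge_hc C hC e4 (.of_conj hs e)⟩

/-- Everything is decided by the eight representatives. -/
theorem eq_top_of_links {S : List ℕ} (hmem : S ∈ pats)
    (hT : ∀ k < 8, k ∈ S → HC K t (E (reps.getD k 0)))
    (hF : ∀ k < 8, k ∉ S → HC K (E 10) (E (reps.getD k 0))) : K = ⊤ := by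
  have hF' : ∀ k < 8, k ∉ S → ¬ IsConj t (E (reps.getD k 0)) := fun k hk hn h =>
    not_fused_42 C (h.trans (hF k hk hn).isConj.symm)
  refine eq_top_of_fused C hmem (fun k hk => ?_) K hC (odd_index C) hT hF
  exact ⟨fun h => by_contra fun hn => hF' k hk hn h, fun h => (hT k hk h).isConj⟩

/-- The Held type: the generated subgroup is everything once the class of the fifth representative is decided. -/
theorem he_top {s : G} {R : List (List ℕ × List ℕ)} (S : Cert.Sys E s psiTab R) (hs : s ∈ K)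
    (h385 : HC K t (E 385) ∨ HC K (E 10) (E 385)) : K = ⊤ := by
  obtain ⟨l1, l392, l8, l45, l7⟩ := he_links C hC S hs
  have h392 := l1.trans l392
  have h393 := h392.trans l45
  have h8' := h393.trans l8.symm
  have t3 : HC K t (E 64) := by rw [el_top C]; exact .refl t
  rcases h385 with h | h
  · refine eq_top_of_links C hC (S := [0, 1, 3, 4, 5, 6]) (by simp [pats]) (fun k hk hm => ?_) fun k hk hm => ?_
    · interval_cases k <;> first | exact absurd hm (by decide) | skip
      exacts [l1, h8', t3, h, h392, h393]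
    · interval_cases k <;> first | exact absurd (by decide) hm | skip
      exacts [.refl _, l7]
  · refine eq_top_of_links C hC (S := [0, 1, 3, 5, 6]) (by simp [pats]) (fun k hk hm => ?_) fun k hk hm => ?_
    · interval_cases k <;> first | exact absurd hm (by decide) | skip
      exacts [l1, h8', t3, h392, h393]
    · interval_cases k <;> first | exact absurd (by decide) hm | skip
      exacts [.refl _, h, l7]

/-- Both sides normalising: the generated subgroup is everything. -/
theorem norm_top {s s' : G} (T : HasTab t E s normTab) (hs : s ∈ K)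
    (T' : HasTab t (cEl t (swA t a b) (swB t a b) x⁻¹ y (t * r)) s' normTab) (hs' : s' ∈ K) : K = ⊤ := by
  obtain ⟨l1, l8, l392, l423⟩ := norm_links C hC (.inl rfl) T hs
  obtain ⟨t8, l385⟩ := swap_links C hC T' hs'
  have t3 : HC K t (E 64) := by rw [el_top C]; exact .refl t
  refine eq_top_of_links C hC (S := [0, 1, 3, 6]) (by simp [pats]) (fun k hk hm => ?_) fun k hk hm => ?_
  · interval_cases k <;> first | exact absurd hm (by decide) | skip
    exacts [l1, t8, t3, t8.trans l8]
  · interval_cases k <;> first | exact absurd (by decide) hm | skip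
    exacts [.refl _, l385, l392, l423]

omit hC in
/-- One normalising side and no fusion of the other: only two classes are fused. -/
theorem fused_pair {s : G} {p : ℕ × ℕ} (hp : p = normTab ∨ p = normTwin) (T : HasTab t E s p)
    (h8 : ¬ IsConj t (E 8)) : Fused t a b x y r [0, 3] := by
  obtain ⟨l1, l8, l392, l423⟩ := norm_links C (K := ⊤) le_top hp T (mem_top s)
  have h392 : ¬ IsConj t (E 392) := fun h => not_fused_42 C (h.trans l392.isConj.symm)
  intro k hk
  interval_cases k
  · exact iff_of_true l1.isConj (by decide)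
  · exact iff_of_false h8 (by decide)
  · exact iff_of_false (not_fused_42 C) (by decide)
  · refine iff_of_true ?_ (by decide)
    show IsConj t (E 64)
    rw [el_top C]
  · exact iff_of_false (Aut.not_fused_centre C h8 h392) (by decide)
  · exact iff_of_false h392 (by decide)
  · exact iff_of_false (fun h => h8 (h.trans l8.isConj.symm)) (by decide)
  · exact iff_of_false (not_fused_423 C) (by decide)

end CfsgLib.HeType.Side
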