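import Cfsg.Agent.Lib.HeType.Cert.Gens
import Cfsg.Agent.Lib.He.Simple
import Cfsg.Agent.Lib.He.InvolCent.Main
import Cfsg.Agent.Lib.HeType.Side.Classify

/-!
The Held completion is the presented Held group, with no assumption on the order.
-/

set_option autoImplicit false
set_option linter.unusedSectionVars false
set_option maxRecDepth 100000

namespace CfsgLib.HeType.Side

open Subgroup CfsgLib.HeType.Cert

/-- The centraliser of the fourth generator is large. -/
theorem he_cent_le : 21504 ≤ Nat.card ↥(centralizer ({PresentedGroup.of Cfsg.Spor.He.Gen.d} : Set Cfsg.Spor.He)) := by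
  haveI := CfsgLib.He.card_he.1
  have e : CfsgLib.He.InvolCent.zPair.2 = (PresentedGroup.of Cfsg.Spor.He.Gen.d : Cfsg.Spor.He) := by
    rw [CfsgLib.He.InvolCent.zPair_snd, CfsgLib.PresCert.act_cons, CfsgLib.PresCert.act_nil, one_mul]
    rfl
  rw [← e]
  refine CfsgLib.He.InvolCent.card_link.trans (Nat.card_le_card_of_injective
    (fun d => (⟨d.1.2, CfsgLib.He.InvolCent.link_snd_mem d.2⟩ :
      ↥(centralizer ({CfsgLib.He.InvolCent.zPair.2} : Set Cfsg.Spor.He)))) fun u v h => ?_)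
  have h2 : u.1.2 = v.1.2 := congrArg Subtype.val h
  have h1 := CfsgLib.He.InvolCent.link_eq_one (mul_mem (inv_mem u.2) v.2)
    (Or.inr (by rw [Prod.snd_mul, Prod.snd_inv, h2, inv_mul_cancel]))
  exact Subtype.ext (inv_mul_eq_one.1 h1)

theorem braid_labels : Cfsg.Spor.He.Gen.d ∈ Cfsg.Spor.coxNodes Cfsg.Spor.He.edges ∧
    Cfsg.Spor.He.Gen.e ∈ Cfsg.Spor.coxNodes Cfsg.Spor.He.edges ∧
    Cfsg.Spor.He.Gen.g ∈ Cfsg.Spor.coxNodes Cfsg.Spor.He.edges ∧
    Cfsg.Spor.coxLabel Cfsg.Spor.He.edges .d .e = 3 ∧ Cfsg.Spor.coxLabel Cfsg.Spor.He.edges .d .g = 3 ∧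
    fMul 2432 1 = fMul 6 2432 := by decide +kernel

variable {G : Type*} [Group G] [Finite G] {t : G} {Q : Subgroup G} {x y r : G} {a b : ℕ → G}
  (C : Coords t Q R0 true x y r a b) {s : G}

local notation "E" => cEl t a b x y r

include C

/-- The group is the Held group. -/
theorem isoHe (hst : s * t * s⁻¹ = E 1) (S : Cert.Sys E s psiTab heldRels)
    (htop : ∀ K : Subgroup G, centralizer ({t} : Set G) ≤ K → s ∈ K → K = ⊤) : Cfsg.Spor.IsoHe G := by
  haveI := CfsgLib.He.card_he.1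
  haveI : IsSimpleGroup Cfsg.Spor.He := CfsgLib.He.simple
  set f : Cfsg.Spor.He.Gen → G := fun z => Cert.evW E s (gW z) with hf
  have hrel := held_gens S
  let φ : Cfsg.Spor.He →* G := PresentedGroup.toGroup (rels := Cfsg.Spor.coxRelators Cfsg.Spor.He.edges ∪
    {r | r ∈ Cfsg.Spor.He.extra}) (f := f) fun r hr => hrel r (CfsgLib.He.relList_mem.2 hr)
  have hφ : ∀ z, φ (PresentedGroup.of z) = f z := fun z => PresentedGroup.toGroup.of (x := z) _
  have fe : f .e = t := by
    show Cert.evW E s (gW .e) = t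
    simp only [gW, Cert.evW, evL, List.map_cons, List.map_nil, List.prod_cons, List.prod_nil, mul_one,
      if_pos (show (64 : ℕ) < 21504 by norm_num)]
    exact el_top C
  have fg : f .g = E 6 := by
    show Cert.evW E s (gW .g) = E 6
    simp only [gW, Cert.evW, evL, List.map_cons, List.map_nil, List.prod_cons, List.prod_nil, mul_one,
      if_pos (show (6 : ℕ) < 21504 by norm_num)]
  have hinj : Function.Injective φ := by
    rw [← MonoidHom.ker_eq_bot_iff]
    refine (inferInstance : φ.ker.Normal).eq_bot_or_eq_top.resolve_right fun h => C.frame.t_ne ?_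
    rw [← fe, ← hφ]
    exact MonoidHom.mem_ker.1 (h ▸ mem_top _)
  obtain ⟨nd, ne, ng, lde, ldg, hc⟩ := braid_labels
  have fR : ∀ z, f z ∈ φ.range := fun z => ⟨_, hφ z⟩
  have finv : ∀ z ∈ Cfsg.Spor.coxNodes Cfsg.Spor.He.edges, f z * f z = 1 := by
    intro z hz
    have h := hrel ((FreeGroup.of z * FreeGroup.of z) ^ Cfsg.Spor.coxLabel Cfsg.Spor.He.edges z z) (by
      simp only [CfsgLib.He.relList, List.mem_append, List.mem_flatMap, List.mem_map]
      exact Or.inl ⟨z, hz, z, hz, rfl⟩)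
    simp only [Cfsg.Spor.coxLabel, if_pos, pow_one, map_mul, FreeGroup.lift_apply_of] at h
    exact h
  have braid : ∀ u v, u ∈ Cfsg.Spor.coxNodes Cfsg.Spor.He.edges → v ∈ Cfsg.Spor.coxNodes Cfsg.Spor.He.edges →
      Cfsg.Spor.coxLabel Cfsg.Spor.He.edges u v = 3 → f u * f v * f u * (f u * f v)⁻¹ = f v := by
    intro u v hu hv hl
    have h := hrel ((FreeGroup.of u * FreeGroup.of v) ^ Cfsg.Spor.coxLabel Cfsg.Spor.He.edges u v) (by
      simp only [CfsgLib.He.relList, List.mem_append, List.mem_flatMap, List.mem_map]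
      exact Or.inl ⟨u, hu, v, hv, rfl⟩)
    rw [hl, map_pow, map_mul, FreeGroup.lift_apply_of, FreeGroup.lift_apply_of] at h
    have iu := inv_eq_of_mul_eq_one_left (finv u hu)
    have iv := inv_eq_of_mul_eq_one_left (finv v hv)
    rw [show (f u * f v) ^ 3 = f u * f v * f u * f v * f u * f v by rw [pow_succ, pow_two]; simp only [mul_assoc],
      mul_eq_one_iff_eq_inv, iv] at h
    rw [mul_inv_rev, iu, iv, ← mul_assoc]
    exact h
  set k := f .d * f .e with hk
  have hkX : k * f .d * k⁻¹ = t := (braid _ _ nd ne lde).trans fe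
  have hkR : k ∈ φ.range := mul_mem (fR _) (fR _)
  -- the centraliser
  let cj : ↥(centralizer ({f .d} : Set G)) → ↥(centralizer ({t} : Set G)) := fun u =>
    ⟨k * u * k⁻¹, mem_centralizer_singleton_iff.2 (by
      rw [← hkX]
      calc k * u * k⁻¹ * (k * f .d * k⁻¹) = k * (u * f .d) * k⁻¹ := by group
        _ = k * (f .d * u) * k⁻¹ := by rw [mem_centralizer_singleton_iff.1 u.2]
        _ = k * f .d * k⁻¹ * (k * u * k⁻¹) := by group)⟩
  have cinj : Function.Injective cj := fun u v h =>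
    Subtype.ext (mul_left_cancel (mul_right_cancel (congrArg Subtype.val h)))
  let im : ↥(centralizer ({PresentedGroup.of Cfsg.Spor.He.Gen.d} : Set Cfsg.Spor.He)) →
      ↥(centralizer ({f .d} : Set G)) := fun u => ⟨φ u, mem_centralizer_singleton_iff.2 (by
        rw [← hφ, ← map_mul, ← map_mul, mem_centralizer_singleton_iff.1 u.2])⟩
  have iinj : Function.Injective im := fun u v h => Subtype.ext (hinj (congrArg Subtype.val h))
  have hsur : Function.Surjective (cj ∘ im) :=
    ((Nat.bijective_iff_injective_and_card _).2 ⟨cinj.comp iinj,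
      le_antisymm (Nat.card_le_card_of_injective _ (cinj.comp iinj)) (C.cardC.le.trans he_cent_le)⟩).2
  have hCR : centralizer ({t} : Set G) ≤ φ.range := by
    intro g hg
    obtain ⟨u, hu⟩ := hsur ⟨g, hg⟩
    have e : k * φ u * k⁻¹ = g := congrArg Subtype.val hu
    rw [← e]
    exact mul_mem (mul_mem hkR ⟨_, rfl⟩) (inv_mem hkR)
  -- the element of order three
  set w := f .d * f .g * k⁻¹ with hw
  have hwt : w * t * w⁻¹ = E 6 := by
    rw [← fg, ← braid _ _ nd ng ldg, hw, ← hkX]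
    group
  set c := E 2432 with hcdef
  have hc1 : c * E 1 * c⁻¹ = E 6 := (el_eq_of_conj C (by norm_num) (by norm_num) (by norm_num)).2 hc
  have hz : (s⁻¹ * c⁻¹ * w) * t = t * (s⁻¹ * c⁻¹ * w) := by
    rw [← mul_inv_eq_iff_eq_mul]
    calc s⁻¹ * c⁻¹ * w * t * (s⁻¹ * c⁻¹ * w)⁻¹ = s⁻¹ * (c⁻¹ * (w * t * w⁻¹) * c) * s := by group
      _ = s⁻¹ * (c⁻¹ * (c * E 1 * c⁻¹) * c) * s := by rw [hwt, hc1]
      _ = s⁻¹ * E 1 * s := by group
      _ = t := by rw [← hst]; group
  have hsR : s ∈ φ.range := by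
    have hzR := hCR (mem_centralizer_singleton_iff.2 hz)
    have hwR : w ∈ φ.range := mul_mem (mul_mem (fR _) (fR _)) (inv_mem hkR)
    have e : s = c⁻¹ * w * (s⁻¹ * c⁻¹ * w)⁻¹ := by group
    rw [e]
    exact mul_mem (mul_mem (inv_mem (hCR C.cEl_mem)) hwR) (inv_mem hzR)
  exact ⟨(MulEquiv.ofBijective φ ⟨hinj, MonoidHom.range_eq_top.1 (htop _ hCR hsR)⟩).symm⟩

end CfsgLib.HeType.Side
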