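import Cfsg.Agent.Lib.HeType.Side.Witness
import Cfsg.Agent.Lib.HeType.Side.HeEnd
import Cfsg.Agent.Lib.HeType.Cert.AutTab
import Cfsg.Agent.Lib.HeType.Cert.Rels
import Cfsg.Agent.Lib.HeType.Tri.Mathieu.Model
import Cfsg.Agent.Lib.HeType.Tri.Linear.Model
import Cfsg.Agent.Lib.HeType.Tri.Derive.Linear
import Cfsg.Agent.Lib.HeldTri.Affine.Main

/-!
# The completions of the centraliser of a transvection
-/

set_option autoImplicit false
set_option linter.unusedSectionVars false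
set_option maxRecDepth 100000

namespace CfsgLib.HeType.Side

open Subgroup CfsgLib.HeType.Cert CfsgLib.HeldTri

variable {G : Type*} [Group G] [Finite G] {t : G} {Q : Subgroup G}

/-- The four possibilities. -/
def Outcome (G : Type*) [Group G] : Prop :=
  ((∃ v : Fin 5 → ZMod 2, v ≠ 0 ∧
      Nonempty (G ≃* MulAction.stabilizer (Matrix.SpecialLinearGroup (Fin 5) (ZMod 2)) v)) ∧ ¬ IsSimpleGroup G) ∨
    Nonempty (G ≃* Matrix.SpecialLinearGroup (Fin 5) (ZMod 2)) ∨ Nonempty (G ≃* Cfsg.M24) ∨ Cfsg.Spor.IsoHe G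

theorem w1_words : ([([], 0), ([0, 2, 0, 3, 2, 3, 0, 2, 0, 3, 2, 3], 1), ([0, 3, 0, 2, 3, 1, 2, 1, 3, 0], 2),
    ([1, 2, 3, 1, 2, 3], 3), ([1, 3, 0, 2, 3, 1, 2, 1, 3], 4), ([0, 3, 2, 0, 3, 2], 5),
    ([0, 3, 0, 2, 0, 3, 2, 1, 3], 6), ([0, 2, 3, 1, 2, 3, 0], 7), ([0, 2, 0, 3, 1, 2, 1, 2, 3, 2], 64),
    ([0, 2, 0, 2, 3, 0, 2, 0, 2, 3], 65), ([0, 3, 1, 2, 0, 3, 2, 3, 0], 66), ([2, 0, 3, 2, 0, 3], 67),
    ([1, 3, 1, 2, 0, 3, 2, 3], 68), ([0, 2, 0, 3, 2, 0, 3, 1], 69), ([0, 3, 2, 3, 1, 2, 0, 3], 70),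
    ([1, 2, 0, 3, 2, 0, 3, 0], 71)].all fun w : List ℕ × ℕ =>
      Nat.beq (evW gen2 gen3 w.1) w.2 &&
      [normTab, normTwin].all fun p => w1List.contains (evW p.1 p.2 w.1)) = true ∧
    w1List = [0, 1, 2, 3, 4, 5, 6, 7, 64, 65, 66, 67, 68, 69, 70, 71] := by decide +kernel

variable {x y r : G} {a b : ℕ → G}

local notation "E" => cEl t a b x y r

/-- A normalising type keeps the elementary group of order sixteen. -/
theorem keeps_w1 (C : Coords t Q R0 true x y r a b) {s : G} {p : ℕ × ℕ} (hp : p = normTab ∨ p = normTwin)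
    (T : HasTab t E s p) : ∀ w ∈ wOne t a b x y r, s * w * s⁻¹ ∈ wOne t a b x y r := by
  intro w hw
  obtain ⟨c, hc, rfl⟩ := (mem_wOne C).1 hw
  obtain ⟨hall, hlist⟩ := w1_words
  have hlt : p.1 < 21504 ∧ p.2 < 21504 := by rcases hp with rfl | rfl <;> decide
  have key : ∃ l : List ℕ, evW gen2 gen3 l = c ∧ evW p.1 p.2 l ∈ w1List := by
    simp only [List.all_cons, List.all_nil, Bool.and_true, Bool.and_eq_true, Nat.beq_eq,
      List.contains_iff_mem] at hall
    rw [hlist] at hc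
    simp only [List.mem_cons, List.not_mem_nil, or_false] at hc
    rcases hp with rfl | rfl <;>
      rcases hc with rfl | rfl | rfl | rfl | rfl | rfl | rfl | rfl | rfl | rfl | rfl | rfl | rfl | rfl | rfl | rfl <;>
      grind
  obtain ⟨l, e1, e2⟩ := key
  obtain ⟨e, -, -⟩ := word_map C T.on0 T.on2 T.on3 hlt.1 hlt.2 l
  rw [e1] at e
  rw [e]
  exact (mem_wOne C).2 ⟨_, e2, rfl⟩

theorem gens_le (C : Coords t Q R0 true x y r a b) {D : Tri.Data} {σ : ℕ → G} :
    centralizer ({t} : Set G) ≤ Subgroup.closure (Tri.Sys.gensSet D E σ) ∧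
      ∀ k < D.K, σ k ∈ Subgroup.closure (Tri.Sys.gensSet D E σ) := by
  refine ⟨fun g hg => ?_, fun k hk => Subgroup.subset_closure (Or.inr ⟨k, hk, rfl⟩)⟩
  obtain ⟨c, hc, rfl⟩ := C.cEl_surj hg
  exact Subgroup.subset_closure (Or.inl ⟨c, hc, rfl⟩)

/-- The Held type. -/
theorem he_branch (C : Coords t Q R0 true x y r a b) {s : G} (hs : s * s * s = 1) (T : HasTab t E s heTab) :
    Nonempty (G ≃* Cfsg.M24) ∨ Cfsg.Spor.IsoHe G := by
  have hs3 : s ^ 3 = 1 := by rw [pow_succ, pow_two, hs]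
  have him : Aut.Imgs E s [256, 486, 16453] := by
    intro k hk
    interval_cases k
    exacts [mul_inv_eq_iff_eq_mul.1 T.on0, mul_inv_eq_iff_eq_mul.1 T.on2, mul_inv_eq_iff_eq_mul.1 T.on3]
  obtain ⟨u, hu, hut, htab⟩ := Aut.he_normal C T.mapT hs3 him
  obtain ⟨u', hu', hS⟩ := exists_rels C hu hut (Aut.of_tree htab)
  have hcE : ∀ (K : Subgroup G), centralizer ({t} : Set G) ≤ K → ∀ c < 21504, E c ∈ K :=
    fun K hK c _ => hK C.cEl_mem
  rcases hS with S | S
  · refine .inr (isoHe C hu' S fun K hK hmem => he_top C hK S hmem (.inl ?_))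
    have h := held_385 S (hcE K hK) hmem
    rwa [Side.el_top C] at h
  · left
    have S' := math_sys (fun c d hc hd => (el_mul C hc hd).2) (fun c d hc hd h => el_inj C hc hd h) S
    refine Tri.Mathieu.nonempty_iso S' ?_
    obtain ⟨hK, hσ⟩ := gens_le (t := t) C (D := Tri.Mathieu.data) (σ := fun _ => E 14490 * u')
    have hmem : u' ∈ Subgroup.closure (Tri.Sys.gensSet Tri.Mathieu.data E fun _ => E 14490 * u') :=
      ((Subgroup.closure _).mul_mem_cancel_left (hK C.cEl_mem)).1 (hσ 0 Nat.one_pos)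
    exact he_top C hK S hmem (.inr (math_385 S (hcE _ hK) hmem))

/-- Both sides normalising. -/
theorem linear_branch (C : Coords t Q R0 true x y r a b) {s s' : G} (hs : s * s * s = 1) (T : HasTab t E s normTab)
    (hs' : s' * s' * s' = 1) (T' : HasTab t (cEl t (swA t a b) (swB t a b) x⁻¹ y (t * r)) s' normTab) :
    Nonempty (G ≃* Matrix.SpecialLinearGroup (Fin 5) (ZMod 2)) := by
  obtain ⟨u, hu, hut, -, hus, hug⟩ := norm_side C T hs
  obtain ⟨v, hv, hvt, -, hvs, hvg⟩ := swap_side C T' hs'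
  have mk : ∀ {w : G} {P : List (ℕ × ℕ)} {g : List (ℕ × ℕ)} {i : ℕ}, w * t * w⁻¹ = E i →
      (∀ p ∈ g, p.1 < 21504 ∧ p.2 < 21504 ∧ w * E p.1 = E p.2 * w) → P = g ++ [(64, i)] →
      Tri.Derive.Knows E w P := by
    intro w P g i hwt hg hP p hp
    rw [hP, List.mem_append, List.mem_singleton] at hp
    rcases hp with hp | rfl
    · exact (hg p hp).2.2
    · show w * E 64 = E i * w
      rw [Side.el_top C, ← hwt, inv_mul_cancel_right]
  have SA : Tri.Derive.Side E u Tri.Derive.pairsA := ⟨hu, mk hut hug (by decide +kernel)⟩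
  have SB : Tri.Derive.Side E v Tri.Derive.pairsB := ⟨hv, mk hvt hvg (by decide +kernel)⟩
  obtain ⟨z, -, z', -, -, -, S⟩ := Tri.Derive.linear_rels (Tri.Derive.Base.of_coords C) SA SB
  refine Tri.Linear.nonempty_iso S ?_
  obtain ⟨hK, hσ⟩ := gens_le (t := t) C (D := Tri.Linear.data)
    (σ := fun k => if k = 0 then u * E z else v * E z')
  set K := Subgroup.closure (Tri.Sys.gensSet Tri.Linear.data E fun k => if k = 0 then u * E z else v * E z') with hKdef
  have get : ∀ {w w' : G} {c : ℕ}, w * E c ∈ K → w * w'⁻¹ ∈ centralizer ({t} : Set G) → w' ∈ K := by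
    intro w w' c h h'
    have hw : w ∈ K := (K.mul_mem_cancel_right (hK C.cEl_mem)).1 h
    simpa using K.mul_mem (K.inv_mem (hK h')) hw
  exact norm_top C hK T (get (c := z) (by simpa using hσ 0 (by decide)) hus) T'
    (get (c := z') (by simpa using hσ 1 (by decide)) hvs)

/-- One fused side, given the classification on it. -/
theorem outcome_of_fused (C : Coords t Q R0 true x y r a b) (hf : IsConj t (a 0)) : Outcome G := by
  obtain ⟨s, hs, hc⟩ := classify C hf
  have pair : ∀ {p : ℕ × ℕ}, p = normTab ∨ p = normTwin → HasTab t E s p → ¬ IsConj t (E 8) → Outcome G :=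
    fun hp T h8 => .inl (vector_stabilizer C (fused_pair C hp T h8) (keeps_w1 C hp T) T.mapT)
  rcases hc with ⟨T, -⟩ | ⟨T, -⟩ | ⟨T, h8⟩
  · exact .inr (.inr (he_branch C hs T))
  · by_cases h8 : IsConj t (E 8)
    · have C' := C.swap_exact.1
      have hf' : IsConj t (swA t a b 0) := by
        rw [show swA t a b 0 = b 0 from C.frame.el_b (i := 0) (by norm_num)]
        exact Aut.el_eight C ▸ h8
      obtain ⟨s', hs', hc'⟩ := classify C' hf'
      rcases hc' with ⟨T', -⟩ | ⟨T', -⟩ | ⟨T', h8'⟩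
      · exact .inr (.inr (he_branch C' hs' T'))
      · exact .inr (.inl (linear_branch C hs T hs' T'))
      · refine absurd ?_ h8'
        rw [Aut.el_eight C', show swB t a b 0 = a 0 from C.frame.el_a (i := 0) (by norm_num)]
        exact hf
    · exact pair (.inl rfl) T h8
  · exact pair (.inr rfl) T h8

/-- A fused class of the extraspecial group decides the group. -/
theorem outcome (C : Coords t Q R0 true x y r a b) (hf : IsConj t (a 0) ∨ IsConj t (b 0)) : Outcome G := by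
  rcases hf with hf | hf
  · exact outcome_of_fused C hf
  · refine outcome_of_fused C.swap_exact.1 ?_
    rwa [show swA t a b 0 = b 0 from C.frame.el_b (i := 0) (by norm_num)]

end CfsgLib.HeType.Side
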