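import Cfsg.Agent.Lib.HeType.Cert.Sys
import Cfsg.Agent.Lib.HeType.Cert.Data.Mathieu
import Cfsg.Agent.Lib.HeType.Tri.Mathieu.Data
import Cfsg.Agent.Lib.HeType.Tri.Sound

/-!
# The relations of the second He-type completion give the certificate system of the Mathieu group
-/

set_option autoImplicit false
set_option maxRecDepth 100000
set_option Elab.async false

namespace CfsgLib.HeType.Side

open CfsgLib.HeType.Cert

/-- Traces (moves, word) of the words that have to be trivial. -/
def mathWords : List (List ℕ × List ℕ) := [
  ([14490, 2147483648, 23622320714, 25769803833],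
    [14490, 21505, 14490, 21505, 14490, 21505]),
  ([19518, 2147483648, 30064772287],
    [16437, 14482, 21505, 14482, 21505]),
  ([7283, 2147483648, 8589941875, 18262005467, 66571994621, 94489283222, 73014444262, 106951056614, 35433481081, 30064771163],
    [7283, 21505, 7283, 21505, 7283, 21505, 7283, 21505, 7283, 21505]),
  ([14490, 2147483648, 3221225473],
    [14490, 21505, 1, 21506, 14555]),
  ([14490, 2147483648, 3221225474],
    [14490, 21505, 2, 21506, 67]),
  ([14490, 2147483648, 3221225476],
    [14490, 21505, 4, 21506, 19506]),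
  ([14490, 2147483648, 3221225480],
    [14490, 21505, 24, 21506, 19566]),
  ([14490, 2147483648, 3221225488],
    [14490, 21505, 40, 21506, 16452]),
  ([14490, 2147483648, 3221225536],
    [14490, 21505, 256, 21506, 17668]),
  ([14490, 2147483648, 3221225600],
    [14490, 21505, 392, 21506, 19413]),
  ([14490, 2147483648, 3221225856],
    [14490, 21505, 8576, 21506, 15455])]

theorem math_fld : mathFacts.all (fun B => B.all fun F => Nat.blt (fld F 2) 3) = true := by decide +kernel
theorem math_steps0 : stepsOk mathPts mathFacts mathSteps psiTab mathRels 0 156 = true := by decide +kernel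
theorem math_steps1 : stepsOk mathPts mathFacts mathSteps psiTab mathRels 156 155 = true := by decide +kernel
theorem math_traces : mathWords.all (fun p => traceOk mathFacts 311 psiTab p.1 p.2 0) = true := by decide +kernel

theorem math_codes : fMul 8 14490 = 14482 ∧ fMul 648 14490 = 7283 ∧
    ((mathWords.drop 3).zip (Tri.Mathieu.dgens.getD 0 [])).all (fun q =>
      q.1.2 == [14490, 21505, q.2.1, 21506, q.1.2.getD 4 0] && Nat.blt q.2.1 21504 && Nat.blt q.2.2 21504 &&
        Nat.blt (q.1.2.getD 4 0) 21504 && Nat.beq (fMul q.2.2 (fMul 14490 (q.1.2.getD 4 0))) 0) = true ∧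
    (mathWords.drop 3).length = (Tri.Mathieu.dgens.getD 0 []).length := by decide +kernel

variable {G : Type*} [Group G] {el : ℕ → G} {s : G}

/-- The traced words are trivial. -/
theorem math_trace (S : Sys el s psiTab mathRels) {p : List ℕ × List ℕ} (hp : p ∈ mathWords) :
    evW el s p.2 = 1 := by
  have hB := S.facts_valid mathPts (n := 311) math_fld fun i hi => by
    rcases Nat.lt_or_ge i 156 with h | h
    · exact stepsOk_get math_steps0 i (by omega) (by omega)
    · exact stepsOk_get math_steps1 i (by omega) (by omega)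
  rw [S.trace_eval mathPts hB (List.all_eq_true.1 math_traces p hp), S.one]

theorem evW_cons (a : ℕ) (w : List ℕ) : evW el s (a :: w) = evL el s a * evW el s w := by
  simp [evW]

theorem evW_nil : evW el s [] = 1 := rfl

theorem evL_one : evL el s 21505 = s := by simp [evL]

theorem evL_two : evL el s 21506 = s ^ 2 := by simp [evL]

theorem evL_code {c : ℕ} (h : c < 21504) : evL el s c = el c := by simp [evL, h]

/-- The system of the Mathieu group. -/
theorem math_sys (hlt : ∀ c d, c < 21504 → d < 21504 → fMul c d < 21504)
    (hinj : ∀ c d, c < 21504 → d < 21504 → el c = el d → c = d) (S : Sys el s psiTab mathRels) :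
    Tri.Sys Tri.Mathieu.data el (fun _ => el 14490 * s) := by
  have hm : ∀ c d, c < 21504 → d < 21504 → el c * el d = el (fMul c d) := fun c d hc hd => (S.mul c d hc hd).2
  obtain ⟨c8, c648, hall, hlen⟩ := math_codes
  have h3 : s * s * s = 1 := by rw [← S.cube, pow_succ, pow_two]
  have sinv : s ^ 2 = s⁻¹ := eq_inv_of_mul_eq_one_left (by rw [← pow_succ, S.cube])
  have w : ∀ i (hi : i < mathWords.length), evW el s (mathWords[i]).2 = 1 := fun i hi =>
    math_trace S (List.getElem_mem hi)
  have w0 := w 0 (by decide)
  have w1 := w 1 (by decide)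
  have w2 := w 2 (by decide)
  simp only [mathWords, List.getElem_cons_zero, List.getElem_cons_succ, evW_cons, evL_one,
    evL_code (el := el) (s := s) (show 14490 < 21504 by norm_num),
    evL_code (el := el) (s := s) (show 16437 < 21504 by norm_num),
    evL_code (el := el) (s := s) (show 14482 < 21504 by norm_num),
    evL_code (el := el) (s := s) (show 7283 < 21504 by norm_num), evW_nil] at w0 w1 w2
  refine ⟨hm, fun c d hc hd => hlt c d hc hd, hinj, ?_, ?_⟩
  · intro k hk x hx
    obtain rfl : k = 0 := by simp only [Tri.Mathieu.data] at hk; omega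
    obtain ⟨i, hi, rfl⟩ := List.mem_iff_getElem.1 hx
    have hi' : i < (mathWords.drop 3).length := hlen ▸ hi
    have hq := List.all_eq_true.1 hall ((mathWords.drop 3)[i], (Tri.Mathieu.data.dgens.getD 0 [])[i])
      (List.mem_iff_getElem.2 ⟨i, by rw [List.length_zip]; exact lt_min hi' hi, List.getElem_zip⟩)
    have hw := math_trace S (List.mem_of_mem_drop (List.getElem_mem hi'))
    generalize (Tri.Mathieu.data.dgens.getD 0 [])[i] = x at hq ⊢
    generalize (mathWords.drop 3)[i] = q at hq hw
    simp only [Bool.and_eq_true, beq_iff_eq, Nat.blt_eq, Nat.beq_eq] at hq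
    obtain ⟨⟨⟨⟨he, ha⟩, hb⟩, hz⟩, h0⟩ := hq
    generalize q.2.getD 4 0 = z at he hz h0
    rw [he] at hw
    simp only [evW_cons, evL_one, evL_two, evL_code ha, evL_code hz,
      evL_code (el := el) (s := s) (show 14490 < 21504 by norm_num), evW_nil, mul_one] at hw
    have e0 : el x.2 * (el 14490 * el z) = 1 := by
      rw [hm _ _ (by norm_num) hz, hm _ _ hb (hlt _ _ (by norm_num) hz), h0, S.one]
    show el 14490 * s * el x.1 = el x.2 * (el 14490 * s)
    have e1 : el 14490 * s * el x.1 * s⁻¹ * el z = el x.2 * (el 14490 * el z) := by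
      rw [e0, ← hw, ← sinv]; group
    have e2 : el 14490 * s * el x.1 * s⁻¹ = el x.2 * el 14490 := mul_right_cancel (e1.trans (mul_assoc _ _ _).symm)
    rw [← mul_assoc, ← e2, inv_mul_cancel_right]
  · intro v hv
    have h14482 : el 8 * el 14490 = el 14482 := by rw [hm _ _ (by norm_num) (by norm_num), c8]
    have h7283 : el 648 * el 14490 = el 7283 := by rw [hm _ _ (by norm_num) (by norm_num), c648]
    simp only [Tri.Mathieu.data, Tri.Mathieu.rels, List.mem_cons, List.not_mem_nil, or_false] at hv
    rcases hv with rfl | rfl | rfl | rfl | rfl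
    · rw [← w0]
      simp only [Tri.wEval, Tri.tokEl, Tri.sx, List.map_cons, List.map_nil, List.prod_cons, List.prod_nil,
        Tri.Mathieu.data, show (0 : ℕ) < 1 by norm_num, if_true, mul_assoc]
    · rw [← w1, ← h14482]
      simp only [Tri.wEval, Tri.tokEl, Tri.sx, List.map_cons, List.map_nil, List.prod_cons, List.prod_nil,
        Tri.Mathieu.data, show (0 : ℕ) < 1 by norm_num, if_true, mul_assoc]
    · rw [← w2, ← h7283]
      simp only [Tri.wEval, Tri.tokEl, Tri.sx, List.map_cons, List.map_nil, List.prod_cons, List.prod_nil,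
        Tri.Mathieu.data, show (0 : ℕ) < 1 by norm_num, if_true, mul_assoc]
    · simp [Tri.wEval, Tri.tokEl, Tri.sx, Tri.Mathieu.data]
    · simp [Tri.wEval, Tri.tokEl, Tri.sx, Tri.Mathieu.data]

end CfsgLib.HeType.Side
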