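import Cfsg.Agent.Lib.HeType.Side.Main
import Cfsg.Agent.Lib.HeldTri.Entry.Main
import Cfsg.Agent.Lib.HeType.Fusion.Coords
import Cfsg.Prelude.Def_Sporadic

/-!
# Held's trichotomy for simple groups
-/

set_option autoImplicit false
set_option maxRecDepth 100000

namespace CfsgLib.HeType.Side

open Subgroup CfsgLib.HeType.Cert

/-- A simple group with the centraliser of a transvection. -/
theorem trichotomy {G : Type*} [Group G] [Finite G] [IsSimpleGroup G]
    (s : Matrix.SpecialLinearGroup (Fin 5) (ZMod 2))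
    (hs : (s : Matrix (Fin 5) (Fin 5) (ZMod 2)) = Matrix.transvection 0 1 1) {j : G} (hj : orderOf j = 2)
    (e : centralizer ({j} : Set G) ≃* centralizer ({s} : Set (Matrix.SpecialLinearGroup (Fin 5) (ZMod 2)))) :
    Nonempty (G ≃* Matrix.SpecialLinearGroup (Fin 5) (ZMod 2)) ∨ Nonempty (G ≃* Cfsg.M24) ∨ Cfsg.Spor.IsoHe G := by
  obtain ⟨Q, x, y, r, a, b, C⟩ := CfsgLib.HeldTri.exists_coords_of_iso s hs hj e
  rcases outcome C (fused_split C (CfsgLib.HeldTri.cent_ne_top C) (CfsgLib.HeldTri.odd_index C)) with ⟨-, h⟩ | h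
  · exact absurd (inferInstance : IsSimpleGroup G) h
  · exact h

end CfsgLib.HeType.Side
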