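import Cfsg.Agent.Lib.HeType.Cert.AutSub
import Cfsg.Agent.Lib.HeType.Side.Classify

/-!
# The cycling elements in normal form

An inner change brings a cycling element to a form with simple images of the standard generators of the common
centraliser, on either side.
-/

set_option autoImplicit false
set_option linter.unusedSectionVars false
set_option maxRecDepth 100000

namespace CfsgLib.HeType.Side

open CfsgLib.HeType.Cert

/-- Lines of the Held type: code, image, word. -/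
def rowsHe : List (ℕ × ℕ × List ℕ) := [
  (1, 65, [0, 2, 0, 3, 2, 3, 0, 2, 0, 3, 2, 3]),
  (2, 14553, [0, 3, 0, 2, 3, 1, 2, 1, 3, 0]),
  (4, 16488, [1, 3, 0, 2, 3, 1, 2, 1, 3]),
  (24, 16437, [0, 2, 3, 2, 3, 0, 2, 3, 2, 0]),
  (40, 19487, [1, 2, 3, 2, 3, 0, 2, 3, 2]),
  (256, 15403, [0]),
  (392, 20926, [1, 2, 1, 3, 1, 2, 1, 2, 3]),
  (8576, 1026, [2, 0, 3, 2])]

/-- Lines of the normalising type. -/
def rowsNorm : List (ℕ × ℕ × List ℕ) := [
  (1, 65, [0, 2, 0, 3, 2, 3, 0, 2, 0, 3, 2, 3]),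
  (2, 2, [0, 3, 0, 2, 3, 1, 2, 1, 3, 0]),
  (4, 4, [1, 3, 0, 2, 3, 1, 2, 1, 3]),
  (24, 16437, [0, 2, 3, 2, 3, 0, 2, 3, 2, 0]),
  (40, 19487, [1, 2, 3, 2, 3, 0, 2, 3, 2]),
  (256, 256, [0]),
  (392, 456, [1, 2, 1, 3, 1, 2, 1, 2, 3]),
  (8576, 17735, [2, 0, 3, 2])]

/-- Lines of the normalising type in exchanged coordinates. -/
def rowsSwap : List (ℕ × ℕ × List ℕ) := [
  (48, 19487, [0, 2, 3, 2, 1, 2, 3, 2, 3]),
  (24, 14507, [0, 2, 3, 2, 3, 0, 2, 3, 2, 0]),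
  (1, 65, [0, 2, 0, 3, 2, 3, 0, 2, 0, 3, 2, 3]),
  (5, 2, [0, 3, 2, 0, 3, 2]),
  (7, 5, [0, 2, 3, 1, 2, 3, 0]),
  (256, 15475, [0]),
  (456, 1233, [0, 2, 1, 2, 0, 2]),
  (20360, 1509, [2, 0, 2, 3, 2, 0])]

/-- Generators and images of the Held type. -/
def heGens : List (ℕ × ℕ) :=
  [(1, 65), (2, 14553), (4, 16488), (24, 16437), (40, 19487), (256, 15403), (392, 20926), (8576, 1026)]

/-- Generators and images of the normalising type. -/
def normGens : List (ℕ × ℕ) :=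
  [(1, 65), (2, 2), (4, 4), (24, 16437), (40, 19487), (256, 256), (392, 456), (8576, 17735)]

/-- Generators and images of the normalising type on the second side. -/
def swapGens : List (ℕ × ℕ) :=
  [(2, 18916), (4, 21054), (8, 72), (16, 48), (32, 16), (256, 21434), (385, 1229), (7681, 1431)]

/-- An inner change gives a new table. -/
def shiftOk (p : ℕ × ℕ) (d : ℕ) (w0 w1 : List ℕ) (rows : List (ℕ × ℕ × List ℕ)) : Bool :=
  dList.contains d && Nat.beq (evW gen2 gen3 w0) d && Nat.beq (evW gen2 gen3 w1) (evW p.1 p.2 w0) &&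
    Nat.beq (fMul d (fMul (evW p.1 p.2 w0) (evW p.1 p.2 w1))) 0 &&
    rows.all fun r => Nat.blt r.2.1 21504 && Nat.beq (evW gen2 gen3 r.2.2) r.1 &&
      Nat.beq (fMul d (evW p.1 p.2 r.2.2)) (fMul r.2.1 d)

theorem he_ok : shiftOk heTab 16436 [1, 2, 3, 2, 3, 0] [1, 2, 0, 3, 1, 2, 0, 3] rowsHe = true ∧
    (rowsHe.map fun r => (r.1, r.2.1)) = heGens := by decide +kernel

theorem norm_ok : shiftOk normTab 1024 [1] [1] rowsNorm = true ∧
    (rowsNorm.map fun r => (r.1, r.2.1)) = normGens := by decide +kernel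

theorem swap_ok : shiftOk normTab 20828 [2, 3, 2, 0] [0, 2, 0, 3, 1, 2] rowsSwap = true ∧
    (rowsSwap.map fun r => (Aut.piC r.1, Aut.piC r.2.1)) = swapGens ∧ Aut.piC 1 = 8 ∧ Aut.piC 65 = 72 := by
  decide +kernel

variable {G : Type*} [Group G] [Finite G] {t : G} {Q : Subgroup G} {x y r : G} {a b : ℕ → G}
  (C : Coords t Q R0 true x y r a b)

local notation "E" => cEl t a b x y r

include C

/-- An inner change of a cycling element. -/
theorem shift {s : G} {p : ℕ × ℕ} (T : HasTab t E s p) (hp : p.1 < 21504 ∧ p.2 < 21504) (hs : s * s * s = 1)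
    {d : ℕ} {w0 w1 : List ℕ} {rows : List (ℕ × ℕ × List ℕ)} (h : shiftOk p d w0 w1 rows = true) :
    ∃ u, u * u * u = 1 ∧ u * t * u⁻¹ = E 1 ∧ u * E 1 * u⁻¹ = E 65 ∧
      u * s⁻¹ ∈ Subgroup.centralizer ({t} : Set G) ∧ ∀ r ∈ rows, r.1 < 21504 ∧ r.2.1 < 21504 ∧ u * E r.1 = E r.2.1 * u := by
  simp only [shiftOk, Bool.and_eq_true, List.contains_iff_mem, Nat.beq_eq, List.all_eq_true, Nat.blt_eq] at h
  obtain ⟨⟨⟨⟨hd, h0⟩, h1⟩, h2⟩, hr⟩ := h
  have hw := word_map C T.on0 T.on2 T.on3 hp.1 hp.2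
  obtain ⟨hT, hA⟩ := keep C T.mapT T.mapA hd
  refine ⟨E d * s, ?_, hT, hA, by rw [mul_inv_cancel_right]; exact C.cEl_mem, fun r hmem => ?_⟩
  · obtain ⟨e0, -, l0⟩ := hw w0
    obtain ⟨e1, -, l1⟩ := hw w1
    rw [h0] at e0
    rw [h1, ← e0] at e1
    calc E d * s * (E d * s) * (E d * s)
        = E d * ((s * E d * s⁻¹) * (s * (s * E d * s⁻¹) * s⁻¹)) * (s * s * s) := by group
      _ = E d * (E (evW p.1 p.2 w0) * E (evW p.1 p.2 w1)) := by rw [hs, mul_one, e1, e0]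
      _ = E (fMul d (fMul (evW p.1 p.2 w0) (evW p.1 p.2 w1))) := by
          rw [(el_mul C l0 l1).1, (el_mul C (dlt hd) (el_mul C l0 l1).2).1]
      _ = 1 := by rw [h2, C.cEl_one]
  · obtain ⟨⟨hb, hwa⟩, hdb⟩ := hr r hmem
    obtain ⟨e, la, lv⟩ := hw r.2.2
    rw [hwa] at e la
    refine ⟨la, hb, ?_⟩
    have h := (el_mul C (dlt hd) lv).1.trans ((congrArg E hdb).trans (el_mul C hb (dlt hd)).1.symm)
    rw [← mul_assoc, ← h, ← e]
    group

/-- The Held type in normal form. -/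
theorem he_side {s : G} (T : HasTab t E s heTab) (hs : s * s * s = 1) :
    ∃ u, u * u * u = 1 ∧ u * t * u⁻¹ = E 1 ∧ u * E 1 * u⁻¹ = E 65 ∧
      u * s⁻¹ ∈ Subgroup.centralizer ({t} : Set G) ∧ ∀ p ∈ heGens, p.1 < 21504 ∧ p.2 < 21504 ∧ u * E p.1 = E p.2 * u := by
  obtain ⟨u, h1, h2, h3, hus, h4⟩ := shift C T (by decide) hs he_ok.1
  refine ⟨u, h1, h2, h3, hus, fun p hp => ?_⟩
  rw [← he_ok.2, List.mem_map] at hp
  obtain ⟨r, hr, rfl⟩ := hp
  exact h4 r hr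

/-- The normalising type in normal form. -/
theorem norm_side {s : G} (T : HasTab t E s normTab) (hs : s * s * s = 1) :
    ∃ u, u * u * u = 1 ∧ u * t * u⁻¹ = E 1 ∧ u * E 1 * u⁻¹ = E 65 ∧
      u * s⁻¹ ∈ Subgroup.centralizer ({t} : Set G) ∧ ∀ p ∈ normGens, p.1 < 21504 ∧ p.2 < 21504 ∧ u * E p.1 = E p.2 * u := by
  obtain ⟨u, h1, h2, h3, hus, h4⟩ := shift C T (by decide) hs norm_ok.1
  refine ⟨u, h1, h2, h3, hus, fun p hp => ?_⟩
  rw [← norm_ok.2, List.mem_map] at hp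
  obtain ⟨r, hr, rfl⟩ := hp
  exact h4 r hr

/-- The normalising type on the second side in normal form. -/
theorem swap_side {s : G} (T : HasTab t (cEl t (swA t a b) (swB t a b) x⁻¹ y (t * r)) s normTab)
    (hs : s * s * s = 1) :
    ∃ u, u * u * u = 1 ∧ u * t * u⁻¹ = E 8 ∧ u * E 8 * u⁻¹ = E 72 ∧
      u * s⁻¹ ∈ Subgroup.centralizer ({t} : Set G) ∧ ∀ p ∈ swapGens, p.1 < 21504 ∧ p.2 < 21504 ∧ u * E p.1 = E p.2 * u := by
  obtain ⟨hok, hmap, h18, h65⟩ := swap_ok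
  obtain ⟨u, h1, h2, h3, hus, h4⟩ := shift C.swap_exact.1 T (by decide) hs hok
  rw [(Aut.el_pi C (show 1 < 21504 by norm_num)).2, h18] at h2 h3
  rw [(Aut.el_pi C (show 65 < 21504 by norm_num)).2, h65] at h3
  refine ⟨u, h1, h2, h3, hus, fun p hp => ?_⟩
  rw [← hmap, List.mem_map] at hp
  obtain ⟨r, hr, rfl⟩ := hp
  obtain ⟨ha, hb, e⟩ := h4 r hr
  rw [(Aut.el_pi C ha).2, (Aut.el_pi C hb).2] at e
  exact ⟨(Aut.el_pi C ha).1, (Aut.el_pi C hb).1, e⟩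

end CfsgLib.HeType.Side
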