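import Cfsg.Agent.Lib.HeType.Cert.HeldCheck
import Cfsg.Agent.Lib.HeType.Side.MathTrace
import Cfsg.Agent.Lib.HeType.Side.Fusion

/-!
The class of the fifth representative in the two completions of Held type, by traced words.
-/

set_option autoImplicit false
set_option maxRecDepth 100000
set_option Elab.async false

namespace CfsgLib.HeType.Side

open CfsgLib.HeType.Cert

/-- A word carrying the central involution to the fifth representative. -/
def hePath : List ℕ := [7477, 21506, 11857, 21505, 8573, 21506, 13566, 21506, 17217, 21505, 6464, 21506, 8146]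

/-- Its inverse. -/
def hePathInv : List ℕ := [18722, 21505, 15488, 21506, 21443, 21505, 16075, 21505, 5934, 21506, 11646, 21505, 594]

/-- The moves. -/
def heMoves : List ℕ := [11857, 2147483648, 6442459517, 23144174989, 34359738522, 38654724037, 111669150847, 113816637008, 270582939886, 352187328417, 336121299660, 335007449805, 354334803414, 112742892695, 103079216211, 96636764755, 23622320789, 28991309582, 3221226502]

/-- A word carrying the third representative to the fifth. -/
def mathPath : List ℕ := [5553, 21506, 12336, 21505, 8371, 21505, 12705]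

/-- Its inverse. -/
def mathPathInv : List ℕ := [15263, 21506, 15209, 21506, 12336, 21505, 908]

/-- The moves. -/
def mathMoves : List ℕ := [5553, 26843545600, 28991295644, 18262018302, 66571993520, 94489293195, 47244660333, 49392124036, 64424518969, 50465866848, 96636765140, 30064771480]

theorem he_trace385 : traceOk heldFacts 563 psiTab heMoves
    ((hePath ++ [64] ++ hePathInv ++ [385]).drop 2 ++ (hePath ++ [64] ++ hePathInv ++ [385]).take 2) 0 = true := by
  decide +kernel

theorem math_trace385 : traceOk mathFacts 311 psiTab mathMoves (mathPath ++ [10] ++ mathPathInv ++ [385]) 0 = true := by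
  decide +kernel

theorem paths_ok : (invP hePath.reverse hePathInv && hePath.length == hePathInv.length &&
    invP mathPath.reverse mathPathInv && mathPath.length == mathPathInv.length && fMul 385 385 == 0) = true := by
  decide +kernel

variable {G : Type*} [Group G] {el : ℕ → G} {s : G} {R : List (List ℕ × List ℕ)} {K : Subgroup G}

theorem evW_app (A B : List ℕ) : Cert.evW el s (A ++ B) = Cert.evW el s A * Cert.evW el s B := by simp [Cert.evW]

theorem evW_mem (hc : ∀ c < 21504, el c ∈ K) (hs : s ∈ K) (w : List ℕ) : Cert.evW el s w ∈ K := by
  refine list_prod_mem fun z hz => ?_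
  obtain ⟨c, -, rfl⟩ := List.mem_map.1 hz
  unfold evL
  split_ifs with h
  exacts [hc c h, pow_mem hs _]

/-- A trivial word of the shape of a conjugation. -/
theorem hc_of_word (S : Sys el s psiTab R) (hc : ∀ c < 21504, el c ∈ K) (hs : s ∈ K) {W I : List ℕ} {u : ℕ}
    (hu : u < 21504) (hi : invP W.reverse I = true) (hl : W.length = I.length)
    (h385 : fMul 385 385 = 0) (h : Cert.evW el s (W ++ [u] ++ I ++ [385]) = 1) : HC K (el u) (el 385) := by
  have hI := S.invP_spec W.reverse I I.length hi
  rw [List.take_length, List.take_of_length_le (by simp [hl]), List.reverse_reverse] at hI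
  refine ⟨_, evW_mem hc hs W, ?_⟩
  rw [evW_app, evW_app, evW_app, eq_inv_of_mul_eq_one_right hI,
    show Cert.evW el s [u] = el u by simp [Cert.evW, evL, hu], show Cert.evW el s [385] = el 385 by simp [Cert.evW, evL],
    mul_eq_one_iff_eq_inv] at h
  rw [h]
  refine inv_eq_of_mul_eq_one_right ?_
  rw [(S.mul _ _ (by norm_num) (by norm_num)).2, h385, S.one]

/-- In the Held completion the fifth class is fused. -/
theorem held_385 (S : Sys el s psiTab heldRels) (hc : ∀ c < 21504, el c ∈ K) (hs : s ∈ K) :
    HC K (el 64) (el 385) := by
  obtain ⟨⟨⟨⟨h1, h2⟩, -⟩, -⟩, h5⟩ : (((invP hePath.reverse hePathInv = true ∧ hePath.length = hePathInv.length) ∧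
      invP mathPath.reverse mathPathInv = true) ∧ mathPath.length = mathPathInv.length) ∧ fMul 385 385 = 0 := by
    simpa [Bool.and_eq_true] using paths_ok
  have hB := S.facts_valid heldPts (n := 563) held_fld fun i hi => by
    rcases Nat.lt_or_ge i 140 with h | h
    · exact stepsOk_get held_steps0 i (by omega) (by omega)
    rcases Nat.lt_or_ge i 280 with h' | h'
    · exact stepsOk_get held_steps1 i (by omega) (by omega)
    rcases Nat.lt_or_ge i 420 with h'' | h''
    · exact stepsOk_get held_steps2 i (by omega) (by omega)
    exact stepsOk_get held_steps3 i (by omega) (by omega)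
  have e := S.trace_eval heldPts hB he_trace385
  rw [S.one, evW_app] at e
  refine hc_of_word S hc hs (by norm_num) h1 h2 h5 ?_
  generalize hePath ++ [64] ++ hePathInv ++ [385] = W at e ⊢
  rw [← List.take_append_drop 2 W, evW_app]
  exact mul_eq_one_comm.1 e

/-- In the other completion it is conjugate to the unfused class. -/
theorem math_385 (S : Sys el s psiTab mathRels) (hc : ∀ c < 21504, el c ∈ K) (hs : s ∈ K) :
    HC K (el 10) (el 385) := by
  obtain ⟨⟨⟨-, h3⟩, h4⟩, h5⟩ : (((invP hePath.reverse hePathInv = true ∧ hePath.length = hePathInv.length) ∧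
      invP mathPath.reverse mathPathInv = true) ∧ mathPath.length = mathPathInv.length) ∧ fMul 385 385 = 0 := by
    simpa [Bool.and_eq_true] using paths_ok
  have hB := S.facts_valid mathPts (n := 311) math_fld fun i hi => by
    rcases Nat.lt_or_ge i 156 with h | h
    · exact stepsOk_get math_steps0 i (by omega) (by omega)
    · exact stepsOk_get math_steps1 i (by omega) (by omega)
  have e := S.trace_eval mathPts hB math_trace385
  rw [S.one] at e
  exact hc_of_word S hc hs (by norm_num) h3 h4 h5 e

end CfsgLib.HeType.Side
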